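import Cfsg.Agent.H129.RealE7_m3
import Cfsg.Agent.H696.GmnThree
import Cfsg.Agent.H952.On.Table
import Cfsg.Agent.ChevFast.E7
import Cfsg.Agent.FastGrp
import Cfsg.Agent.Prune
set_option linter.all false
prune_inst 0x7f00000000000000000000000000000000000000000000000000000000000000000000000000000000000000000000000000000000000000000000000000000000000000000000000000000000000000003fffffffffffffffffffffffffffbeffbdffffffff
open scoped Cfsg.Agent.FastGrp

/-!
# `E₇(q)`: elements of odd prime order are real (helper486, row E7 of S3855)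

* `exists_outer` : every twisted torus of the fixed points contains an element outside the image of the finite group;
* `real_e7` : every element of odd prime order prime to `q` of `E₇(q)` is conjugate to its inverse;
* `e7` : the row of S3855.
-/

set_option autoImplicit false
set_option linter.unusedSectionVars false

namespace Cfsg.Agent.H486.OnE7

open CoxeterSystem Cfsg Cfsg.Lie Cfsg.Lie.ChevalleyDatum
open Cfsg.Agent.ChevalleyStructure Cfsg.Agent.ChevalleyStructure.Elts Cfsg.Agent.ChevalleyStructure.CoxeterGeom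
  Cfsg.Agent.ChevalleyStructure.CoxeterGeomTypes Cfsg.Agent.ChevalleyStructure.NPerm
open Cfsg.Agent.Tits.Roots Cfsg.Agent.Tits.Core Cfsg.Agent.Nodes Cfsg.Agent.Nodes.Reps Cfsg.Agent.Nodes.BNOf
  Cfsg.Agent.Nodes.RGDChev
open Cfsg.Agent.KFacts.RgdChevCoord Cfsg.Agent.GpExc.Field Cfsg.Agent.H129.TorusUntw Cfsg.Agent.H129.StCover
open Cfsg.Agent.ChevalleyStructure.StBasic Cfsg.Agent.ChevalleyStructure.StTheta
open Cfsg.Agent.ChevalleyStructure.StTorus (eval_eq_one)

universe u v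

section Main

variable {D : ChevalleyDatum} {l : ℕ} {M : CoxeterMatrix (Fin l)} (hp : IsType D l M) {k : Type u} [Field k]
  [IsAlgClosed k] {W : Type*} [Group W] (cs : CoxeterSystem M W) {p e : ℕ} [Fact p.Prime] [CharP k p]
  {Φ : (Fin D.rank → kˣ) →* D.SteinbergGroup k} (hΦ : IsPhi Φ)

include hp in
theorem exists_nW {T : Subgroup ↥(D.group k)} {hN : NSys M T (nc hp k)} {w : W} {n : ↥(D.group k)}
    (hn : Rp cs hN w n) : ∃ ω : List (Fin l), (theta hp.inList k (nW D k ω))⁻¹ * n ∈ T := by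
  obtain ⟨ω, rfl⟩ := cs.wordProd_surjective w
  have hrp : Rp cs hN (cs.wordProd ω) (theta hp.inList k (nW D k ω)) := by
    clear hn
    induction ω with
    | nil =>
      rw [wordProd_nil]
      have : theta hp.inList k (nW D k ([] : List (Fin l))) = 1 := by simp [nW]
      rw [this]
      exact rp_one
    | cons i ω ih =>
      rw [wordProd_cons, nW_cons, map_mul, theta_stn_simple hp]
      exact (rp_simple cs hN i).mul ih
  exact ⟨ω, hrp.unique hn⟩

include hp cs hΦ in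
/-- **Every twisted torus has a fixed element outside the image of the finite group**, if the centre of the simply
connected group is not trivial and is fixed by the Frobenius map (`StCover.not_mem_range` of helper129). -/
theorem exists_outer {F : Type u} [Field F] [Fintype F] (f : F →+* k) (hq : Fintype.card F = p ^ e)
    {c : Fin D.rank → kˣ} (hc : ∀ s < D.nroots, ∏ i : Fin D.rank, c i ^ D.cartan i s = 1) (hc1 : c ≠ 1)
    (hfix : ∀ b : Fin D.rank → kˣ, (∀ s < D.nroots, ∏ i : Fin D.rank, b i ^ D.cartan i s = 1) → ∀ i,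
      b i ^ p ^ e = b i)
    {ω : List (Fin l)} {n z : ↥(D.group k)} (ht0 : (theta hp.inList k (nW D k ω))⁻¹ * n ∈ TT D k)
    (hz : n = z⁻¹ * phi D k p e z) :
    ∃ s ∈ TT D k, n * phi D k p e s * n⁻¹ = s ∧ z * s * z⁻¹ ∉ (emb hp.inList f).range := by
  have hD := hp.inList
  have hq2 : 2 ≤ p ^ e := by rw [← hq]; exact Fintype.one_lt_card
  set φ : k →+* k := iterateFrobenius k p e with hφ
  have hφf : φ.comp f = f := by
    ext a
    exact (frob_fix_iff f hq (f a)).2 ⟨a, rfl⟩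
  obtain ⟨A, hA⟩ := exists_matrix hD hΦ (lt_rank hp) ω
  -- the solution
  obtain ⟨b, hb⟩ := exists_solution A hq2 c
  have hσb : stMap D φ (Φ b) = Φ (fun i => b i ^ p ^ e) := by
    rw [stMap_phi hΦ]
    refine congrArg Φ (funext fun i => Units.ext ?_)
    rw [Units.val_pow_eq_pow_val]
    exact iterateFrobenius_def _ _ _
  have hτ : nW D k ω * stMap D φ (Φ b) * (nW D k ω)⁻¹ = Φ b * Φ c := by
    rw [hσb, hA, hb, map_mul]
  have hcc : Φ c ∈ Subgroup.center (D.SteinbergGroup k) := (hΦ.mem_iff c).2 hc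
  have hθc : theta hD k (Φ c) = 1 := by
    rw [← MonoidHom.mem_ker, ker_theta hD]; exact hcc
  have hθσ : ∀ x : D.SteinbergGroup k, theta hD k (stMap D φ x) = phi D k p e (theta hD k x) := fun x => by
    rw [theta_stMap, phi_eq hp]
  -- the element `s`
  have hs : theta hD k (Φ b) ∈ TT D k := theta_phi_mem hD hΦ b
  have hσs : phi D k p e (theta hD k (Φ b)) ∈ TT D k := (( fr_phi hp cs).tor _).2 hs
  have hns : n * phi D k p e (theta hD k (Φ b)) * n⁻¹ = theta hD k (Φ b) := by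
    have h1 := congrArg (theta hD k) hτ
    rw [map_mul, map_mul, map_inv, map_mul, hθc, mul_one, hθσ] at h1
    have h2 : n = theta hD k (nW D k ω) * ((theta hD k (nW D k ω))⁻¹ * n) := by group
    have h3 := Cfsg.Agent.BpExc.TorChev.TT_comm hp _ ht0 _ hσs
    rw [h2]
    calc theta hD k (nW D k ω) * ((theta hD k (nW D k ω))⁻¹ * n) * phi D k p e (theta hD k (Φ b)) *
          (theta hD k (nW D k ω) * ((theta hD k (nW D k ω))⁻¹ * n))⁻¹
        = theta hD k (nW D k ω) * ((((theta hD k (nW D k ω))⁻¹ * n) * phi D k p e (theta hD k (Φ b))) *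
          ((theta hD k (nW D k ω))⁻¹ * n)⁻¹) * (theta hD k (nW D k ω))⁻¹ := by group
      _ = theta hD k (nW D k ω) * phi D k p e (theta hD k (Φ b)) * (theta hD k (nW D k ω))⁻¹ := by
        rw [h3]; group
      _ = _ := h1
  refine ⟨_, hs, hns, ?_⟩
  rintro ⟨x, hx⟩
  obtain ⟨x', rfl⟩ := theta_surjective hD x
  obtain ⟨z', rfl⟩ := theta_surjective hD z
  set E := stMap D f x' with hE
  have hEfix : stMap D φ E = E := by rw [hE, stMap_comp, hφf]
  have hθE : theta hD k E = theta hD k (z' * Φ b * z'⁻¹) := by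
    rw [hE, theta_stMap, hx, map_mul, map_mul, map_inv]
  have key : ∀ {x y : D.SteinbergGroup k}, theta hD k x = theta hD k y →
      ∃ κ ∈ Subgroup.center (D.SteinbergGroup k), y = x * κ := by
    intro x y hxy
    refine ⟨x⁻¹ * y, ?_, by group⟩
    rw [← ker_theta hD, MonoidHom.mem_ker, map_mul, map_inv, hxy, inv_mul_cancel]
  obtain ⟨κ, hκ, h1⟩ := key hθE
  -- the Frobenius map is trivial on the centre
  have hcen : ∀ κ ∈ Subgroup.center (D.SteinbergGroup k), stMap D φ κ = κ := by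
    intro κ hκ
    obtain ⟨a, rfl⟩ := hΦ.center_le hκ
    have h2 := hfix a ((hΦ.mem_iff a).1 hκ)
    rw [stMap_phi hΦ]
    refine congrArg Φ (funext fun i => Units.ext ?_)
    have h3 := congrArg Units.val (h2 i)
    rw [Units.val_pow_eq_pow_val] at h3
    exact (iterateFrobenius_def _ _ _).trans h3
  -- the lift of `z`
  obtain ⟨a, ha⟩ := exists_theta_phi hΦ hp ht0
  have hθn : theta hD k (nW D k ω * Φ a) = theta hD k (z'⁻¹ * stMap D φ z') := by
    rw [map_mul, ha, map_mul, map_inv, hθσ, ← hz]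
    group
  obtain ⟨κ', hκ', h2⟩ := key hθn
  have h3 : stMap D φ z' = z' * (nW D k ω * Φ a * κ') := by rw [← h2]; group
  have hκc : ∀ x : D.SteinbergGroup k, κ' * x * κ'⁻¹ = x := fun x => by
    rw [← Subgroup.mem_center_iff.1 hκ' x, mul_inv_cancel_right]
  have h4 : stMap D φ (z' * Φ b * z'⁻¹) = z' * (Φ b * Φ c) * z'⁻¹ := by
    rw [map_mul, map_mul, map_inv, h3, ← hτ]
    have h5 : Φ a * stMap D φ (Φ b) * (Φ a)⁻¹ = stMap D φ (Φ b) := by
      rw [hσb, ← map_mul, ← map_inv, ← map_mul]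
      congr 1
      exact mul_inv_cancel_comm _ _
    calc z' * (nW D k ω * Φ a * κ') * stMap D φ (Φ b) * (z' * (nW D k ω * Φ a * κ'))⁻¹
        = z' * (nW D k ω * (Φ a * (κ' * stMap D φ (Φ b) * κ'⁻¹) * (Φ a)⁻¹) * (nW D k ω)⁻¹) * z'⁻¹ := by group
      _ = z' * (nW D k ω * stMap D φ (Φ b) * (nW D k ω)⁻¹) * z'⁻¹ := by rw [hκc, h5]
  rw [h1, map_mul, hEfix, hcen κ hκ, ← h1] at h4
  have h5 : Φ c = 1 := by
    have h6 : z' * Φ b * z'⁻¹ = z' * Φ b * Φ c * z'⁻¹ := by rw [h4]; group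
    have h7 := mul_right_cancel h6
    exact (mul_eq_left.1 h7.symm)
  exact hc1 (hΦ.inj (by rw [h5, map_one]))

end Main

section Real

open Cfsg.Agent.BpExc Cfsg.Agent.BpExc.TorCent Cfsg.Agent.BpExc.TorChev Cfsg.Agent.BpExc.Tow
open Cfsg.Agent.BpExc.TowChev Cfsg.Agent.BpExc.Fr Cfsg.Agent.BpExc.LangFr
open Cfsg.Agent.BpExc.FamInst
open Cfsg.Agent.H696.GmnToral

variable {F : Type} [Field F] [Fintype F]

/-- **Elements of odd prime order of `E₇(q)`, `q` odd, are real.** -/
theorem real_e7_odd {r : ℕ} [Fact r.Prime] [CharP F r] (hr2 : r ≠ 2) {p : ℕ} (hpp : p.Prime) (hpr : p ≠ r)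
    {z : ↥(chevE7.group F)} (hz : z ^ p = 1) : ∃ g, g * z * g⁻¹ = z⁻¹ := by
  set k := AlgebraicClosure (ZMod r) with hkdef
  have hp : IsType chevE7 7 CoxeterMatrix.E₇ := by simp
  set cs := CoxeterMatrix.E₇.toCoxeterSystem with hcs
  obtain ⟨f⟩ := RowsUntw.exists_emb r F
  obtain ⟨e, he, hn⟩ := FamField.exists_card (F := F) r
  have hk : LocFin k := locFin_of_isAlgebraic r _
  have hq : Fintype.card F = r ^ e := by rw [← hn, Nat.card_eq_fintype_card]
  have hZ : Subgroup.center ↥(chevE7.group k) = ⊥ :=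
    Cfsg.Agent.H696.GmnUntw.center_eq_bot_of_simple (Cfsg.Agent.S1054.result (F := k) chevE7 (by simp))
  have hodd : Odd (Fintype.card F) := by
    rw [hq]
    exact ((Fact.out : r.Prime).odd_of_ne_two hr2).pow
  have hdq : 2 ∣ Fintype.card F - 1 := by
    obtain ⟨m, hm⟩ := hodd
    omega
  obtain ⟨Φ, hΦ⟩ := Cfsg.Agent.H129.PhiE.isPhi_E7 k
  -- the centre of the simply connected group
  have hdk : ((2 : ℕ) : k) ≠ 0 := by
    rw [Ne, CharP.cast_eq_zero_iff k r]
    intro h1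
    exact hr2 ((Nat.prime_dvd_prime_iff_eq Fact.out Nat.prime_two).1 h1)
  have hneg1 : (-1 : kˣ) ≠ 1 := by
    intro h
    have h2 := congrArg Units.val h
    rw [Units.val_neg, Units.val_one] at h2
    apply hdk
    push_cast
    linear_combination -h2
  set kv : Fin chevE7.rank → ℤ := ![0, 1, 0, 0, 1, 0, 1] with hkv
  have hkv2 : ∀ s < chevE7.nroots, (2 : ℤ) ∣ ∑ i : Fin chevE7.rank, kv i * chevE7.cartan i s := by
    rw [hkv]; (rewrite [Cfsg.Agent.ChevFast.E7.cartan]; decide +kernel)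
  have hcc : ∀ s < chevE7.nroots, ∏ i : Fin chevE7.rank, ((-1 : kˣ) ^ kv i) ^ chevE7.cartan i s = 1 := by
    intro s hs
    obtain ⟨a, ha⟩ := hkv2 s hs
    rw [Finset.prod_congr rfl fun i _ => (zpow_mul (-1 : kˣ) (kv i) (chevE7.cartan i s)).symm, prod_zpow_sum, ha, zpow_mul]
    have e2 : (-1 : kˣ) ^ (2 : ℤ) = 1 := by
      rw [show (2 : ℤ) = ((2 : ℕ) : ℤ) by norm_num, zpow_natCast, neg_one_sq]
    rw [e2, one_zpow]
  have hc1 : (fun i => (-1 : kˣ) ^ kv i : Fin chevE7.rank → kˣ) ≠ 1 := by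
    intro h1
    have h2 := congrFun h1 ⟨6, by decide⟩
    have h3 : kv ⟨6, by decide⟩ = 1 := rfl
    simp only [h3, zpow_one, Pi.one_apply] at h2
    exact hneg1 h2
  have hBc : ∀ i m : Fin chevE7.rank, ∑ j : Fin chevE7.rank, chevE7.cartan i (chevE7.simple j) *
      (![![4, 4, 6, 8, 6, 4, 2], ![4, 7, 8, 12, 9, 6, 3], ![6, 8, 12, 16, 12, 8, 4],
      ![8, 12, 16, 24, 18, 12, 6], ![6, 9, 12, 18, 15, 10, 5], ![4, 6, 8, 12, 10, 8, 4],
      ![2, 3, 4, 6, 5, 4, 3]] : Fin chevE7.rank → Fin chevE7.rank → ℤ) j m = if i = m then (2 : ℤ) else 0 := by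
    (rewrite [Cfsg.Agent.ChevFast.E7.cartan]; decide +kernel)
  have hfix : ∀ b : Fin chevE7.rank → kˣ, (∀ s < chevE7.nroots, ∏ i : Fin chevE7.rank, b i ^ chevE7.cartan i s = 1) →
      ∀ i, b i ^ r ^ e = b i := by
    intro b hb i
    have h1 := eval_eq_one (fun i j : Fin chevE7.rank => chevE7.cartan i (chevE7.simple j)) _
      (fun m => if m = i then (2 : ℤ) else 0) (fun m => hBc m i) b
      (fun j => hb (chevE7.simple j) (simple_lt hp.inList j.2))
    rw [Finset.prod_eq_single i] at h1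
    · rw [if_pos rfl, show (2 : ℤ) = ((2 : ℕ) : ℤ) by norm_num, zpow_natCast] at h1
      obtain ⟨a, ha⟩ := hdq
      have h2 : r ^ e = 2 * a + 1 := by
        have : 0 < r ^ e := Nat.pow_pos (Fact.out : r.Prime).pos
        rw [hq] at ha
        omega
      rw [h2, pow_succ, pow_mul, h1, one_pow, one_mul]
    · intro j _ hj; rw [if_neg hj, zpow_zero]
    · intro hi; exact absurd (Finset.mem_univ _) hi
  have hcard : 2 * Nat.card (chevE7.diagonalSubgroup F) = (Fintype.card F - 1) ^ 7 := by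
    have h1 := Cfsg.Agent.S1035.result (F := F) rfl (chevE7, Nat.gcd 2 (Fintype.card F - 1)) (by simp)
    rw [Nat.gcd_eq_left hdq] at h1
    exact h1
  -- the torus containing `z`
  have hσx : phi chevE7 k r e (emb hp.inList f z) = emb hp.inList f z := phi_emb hp f hq z
  obtain ⟨w, hw⟩ := TorAll.exists_toral' hp r hpp hpr (y := emb hp.inList f z) (by rw [← map_pow, hz, map_one])
  obtain ⟨z', t, n, g', w', ht, h1, h2, -, -, -, hn', -⟩ := frame_of_toral hp cs hk he
    isFrob_phi (fr_phi hp cs) hσx hw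
  obtain ⟨ω, hω⟩ := exists_nW hp cs hn'
  rw [TL_eq hp hk] at hω
  obtain ⟨s, hs, hs1, hs2⟩ := exists_outer hp cs hΦ f hq hcc hc1 hfix hω (z := z') h2.symm
  set a := z' * s * z'⁻¹ with ha
  have hσz : phi chevE7 k r e z' = z' * n := by rw [← h2]; group
  have hσa : phi chevE7 k r e a = a := by
    rw [ha, map_mul, map_mul, map_inv, hσz]
    calc z' * n * phi chevE7 k r e s * (z' * n)⁻¹ = z' * (n * phi chevE7 k r e s * n⁻¹) * z'⁻¹ := by group
      _ = z' * s * z'⁻¹ := by rw [hs1]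
  have hax : a * emb hp.inList f z = emb hp.inList f z * a := by
    have h3 : emb hp.inList f z = z' * t * z'⁻¹ := by rw [← h1]; group
    rw [h3, ha]
    calc z' * s * z'⁻¹ * (z' * t * z'⁻¹) = z' * (s * t) * z'⁻¹ := by group
      _ = z' * (t * s) * z'⁻¹ := by rw [TT_comm hp s hs t ht]
      _ = _ := by group
  obtain ⟨y, hy1, hy2⟩ := real_of_neg hp cs hk hZ he isFrob_phi (fr_phi hp cs) hσx hw
    (Cfsg.Agent.H696.GmnNeg.negE7 hp cs)
  have key : ∃ g : ↥(chevE7.group F), (emb hp.inList f g)⁻¹ * emb hp.inList f z * emb hp.inList f g =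
      (emb hp.inList f z)⁻¹ := by
    by_cases hr1 : y ∈ (emb hp.inList f).range
    · obtain ⟨g, hg⟩ := hr1
      exact ⟨g, by rw [hg]; exact hy2⟩
    · obtain ⟨g, hg⟩ := Cfsg.Agent.H129.HalfT.mul_mem_range hp cs f hq hcard hσa hy1 hs2 hr1
      refine ⟨g, ?_⟩
      rw [hg, ← hy2]
      calc (a * y)⁻¹ * emb hp.inList f z * (a * y) = y⁻¹ * (a⁻¹ * (emb hp.inList f z * a)) * y := by group
        _ = y⁻¹ * (a⁻¹ * (a * emb hp.inList f z)) * y := by rw [hax]
        _ = _ := by group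
  obtain ⟨g, hg⟩ := key
  refine ⟨g⁻¹, emb_injective hp.inList f ?_⟩
  rw [map_mul, map_mul, map_inv, map_inv, map_inv, inv_inv]
  exact hg

/-- **Elements of odd prime order of `E₇(q)` are real.** -/
theorem real_e7 {p : ℕ} (hpp : p.Prime) (hp2 : p ≠ 2) (hpF : (p : F) ≠ 0)
    {z : ↥(chevE7.group F)} (hz : z ^ p = 1) : ∃ g, g * z * g⁻¹ = z⁻¹ := by
  obtain ⟨r, hr⟩ := CharP.exists F
  have hrp : Fact r.Prime := ⟨CharP.char_is_prime F r⟩
  have hpr : p ≠ r := by
    rintro rfl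
    exact hpF (CharP.cast_eq_zero F p)
  by_cases hr2 : r = 2
  · subst hr2
    have hp : IsType chevE7 7 CoxeterMatrix.E₇ := by simp
    have h1 := Cfsg.Agent.H696.GmnInv.isConj_inv_two hp
      (Cfsg.Agent.H696.GmnUntw.center_eq_bot_of_simple
        (Cfsg.Agent.S1054.result (F := AlgebraicClosure (ZMod 2)) chevE7 (by simp)))
      (Cfsg.Agent.H696.GmnNeg.negE7 hp _) hpp hp2 hz
    exact isConj_iff.1 h1
  · exact real_e7_odd hr2 hpp hpr hz

end Real

open Cfsg.Agent.H467.OddNorm in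
/-- **The row `E₇(q)` of S3855.** -/
theorem e7 {p : ℕ} [Fact p.Prime] (hp2 : p ≠ 2) : Cfsg.Agent.H952.On.RowFor p (fun X _ =>
    ∃ (F : Type) (_ : Field F) (_ : Fintype F), (p : F) ≠ 0 ∧ Nonempty (X ≃* Lie.chevE7.group F)) := by
  rintro X _ _ _ hna hd ⟨F, _, _, hpF, ⟨e⟩⟩
  refine Row.congr e.symm (Row.ev ?_)
  refine Ev.of_real hp2 (Cfsg.Agent.H696.GmnUntw.center_eq_bot_of_simple
    (Cfsg.Agent.S1054.result (F := F) chevE7 (by simp))) (by rwa [← Nat.card_congr e.toEquiv]) fun z hz _ => ?_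
  exact real_e7 Fact.out hp2 hpF (by rw [← hz, pow_orderOf_eq_one])

end Cfsg.Agent.H486.OnE7
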