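import Cfsg.Agent.Solvable.Zipper
set_option linter.all false

/-!
# Relative subnormality, conjugation, subnormal closures
-/

set_option autoImplicit false
open Pointwise

namespace Cfsg.Agent.H486.Sn

universe u

variable {G : Type u} [Group G]

/-- conjugation of subgroups -/
def cj (g : G) : Subgroup G ≃o Subgroup G := (MulAut.conj g).mapSubgroup

theorem cj_eq (g : G) (H : Subgroup G) : cj g H = MulAut.conj g • H := rfl

theorem mem_cj {g x : G} {H : Subgroup G} : x ∈ cj g H ↔ g⁻¹ * x * g ∈ H := by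
  rw [cj_eq, Subgroup.mem_pointwise_smul_iff_inv_smul_mem, ← map_inv, MulAut.smul_def,
    MulAut.conj_apply, inv_inv]

theorem cj_mul (g h : G) (H : Subgroup G) : cj (g * h) H = cj g (cj h H) := by
  ext x
  rw [mem_cj, mem_cj, mem_cj]
  have : (g * h)⁻¹ * x * (g * h) = h⁻¹ * (g⁻¹ * x * g) * h := by group
  rw [this]

theorem cj_one (H : Subgroup G) : cj 1 H = H := by
  ext x
  rw [mem_cj]; simp

theorem cj_inv_cj (g : G) (H : Subgroup G) : cj g⁻¹ (cj g H) = H := by
  rw [← cj_mul, inv_mul_cancel, cj_one]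

theorem cj_cj_inv (g : G) (H : Subgroup G) : cj g (cj g⁻¹ H) = H := by
  rw [← cj_mul, mul_inv_cancel, cj_one]

theorem cj_le {g : G} {H K : Subgroup G} : cj g H ≤ cj g K ↔ H ≤ K := (cj g).le_iff_le

theorem cj_le_iff {g : G} {H K : Subgroup G} : cj g H ≤ K ↔ H ≤ cj g⁻¹ K := by
  rw [← cj_le (g := g⁻¹), cj_inv_cj]

theorem cj_eq_self_iff {g : G} {H : Subgroup G} : cj g H = H ↔ g ∈ Subgroup.normalizer (H : Set G) := by
  rw [Subgroup.mem_normalizer_iff_map_conj_eq]; rfl

theorem cj_self {g : G} {H : Subgroup G} (h : g ∈ H) : cj g H = H :=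
  cj_eq_self_iff.2 (Subgroup.le_normalizer h)

theorem card_cj (g : G) (H : Subgroup G) : Nat.card (cj g H) = Nat.card H :=
  (Nat.card_congr (Subgroup.equivSMul (MulAut.conj g) H).toEquiv).symm

theorem cj_top (g : G) : cj g (⊤ : Subgroup G) = ⊤ := (cj g).map_top

theorem cj_inf (g : G) (H K : Subgroup G) : cj g (H ⊓ K) = cj g H ⊓ cj g K := (cj g).map_inf H K

theorem isCoatom_cj {g : G} {H : Subgroup G} : IsCoatom (cj g H) ↔ IsCoatom H := (cj g).isCoatom_iff H

theorem eq_of_cj_le [Finite G] {g : G} {H : Subgroup G} (h : cj g H ≤ H) : cj g H = H :=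
  Subgroup.eq_of_le_of_card_ge h (card_cj g H).ge

/-- `S` is a subnormal subgroup of `H`. -/
def SN (S H : Subgroup G) : Prop := S ≤ H ∧ (S.subgroupOf H).IsSubnormal

theorem SN.le {S H : Subgroup G} (h : SN S H) : S ≤ H := h.1

theorem SN.refl (H : Subgroup G) : SN H H := ⟨le_rfl, by rw [Subgroup.subgroupOf_self]; exact .top⟩

theorem SN.restrict {S H K : Subgroup G} (h : SN S H) (hSK : S ≤ K) (hKH : K ≤ H) : SN S K := by
  refine ⟨hSK, ?_⟩
  have h1 := h.2.comap (Subgroup.inclusion hKH)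
  have h2 : (S.subgroupOf H).comap (Subgroup.inclusion hKH) = S.subgroupOf K := by
    ext x; rfl
  rwa [h2] at h1

theorem SN.inf {S H : Subgroup G} (h : SN S H) {K : Subgroup G} (hKH : K ≤ H) : SN (S ⊓ K) K := by
  refine ⟨inf_le_right, ?_⟩
  have h1 := h.2.comap (Subgroup.inclusion hKH)
  have h2 : (S.subgroupOf H).comap (Subgroup.inclusion hKH) = (S ⊓ K).subgroupOf K := by
    ext x
    rw [Subgroup.mem_comap, Subgroup.mem_subgroupOf, Subgroup.mem_subgroupOf, Subgroup.mem_inf]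
    exact ⟨fun h => ⟨h, x.2⟩, fun h => h.1⟩
  rwa [h2] at h1

theorem SN.trans {S H K : Subgroup G} (h1 : SN S H) (h2 : SN H K) : SN S K := by
  refine ⟨h1.1.trans h2.1, ?_⟩
  have h3 : S.subgroupOf K ≤ H.subgroupOf K := fun x hx => h1.1 hx
  refine Subgroup.IsSubnormal.trans h3 ?_ h2.2
  let f : H.subgroupOf K →* H := (K.subtype.comp (H.subgroupOf K).subtype).codRestrict H (fun x => x.2)
  have h4 := h1.2.comap f
  have h5 : (S.subgroupOf H).comap f = (S.subgroupOf K).subgroupOf (H.subgroupOf K) := by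
    ext x; rfl
  rwa [h5] at h4

theorem SN.cj {S H : Subgroup G} (h : SN S H) (g : G) : SN (cj g S) (cj g H) := by
  refine ⟨cj_le.2 h.1, ?_⟩
  apply Cfsg.Agent.Solvable.Zipper.conj_subgroupOf_isSubnormal g
  have h1 : MulAut.conj g⁻¹ • (Sn.cj g H) = H := cj_inv_cj g H
  rw [h1]
  exact h.2

theorem SN.cj_iff {S H : Subgroup G} (g : G) : SN (Sn.cj g S) (Sn.cj g H) ↔ SN S H := by
  constructor
  · intro h
    have := h.cj g⁻¹
    rwa [cj_inv_cj, cj_inv_cj] at this
  · exact fun h => h.cj g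

theorem SN.of_normal {S H : Subgroup G} (hle : S ≤ H) (h : H ≤ Subgroup.normalizer (S : Set G)) : SN S H :=
  ⟨hle, ((Subgroup.normal_subgroupOf_iff_le_normalizer hle).2 h).isSubnormal⟩

theorem SN.top_iff {S : Subgroup G} : SN S ⊤ ↔ S.IsSubnormal := by
  constructor
  · rintro ⟨_, h⟩
    have h1 := h.trans' Subgroup.IsSubnormal.top
    rwa [Subgroup.map_subgroupOf_eq_of_le le_top] at h1
  · intro h
    exact ⟨le_top, h.subgroupOf⟩

theorem SN.sSup_mem [Finite G] {T : Set (Subgroup G)} {H : Subgroup G} (h : ∀ S ∈ T, SN S H) : SN (sSup T) H := by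
  have hle : sSup T ≤ H := sSup_le fun S hS => (h S hS).1
  refine ⟨hle, ?_⟩
  have h1 : (sSup T).subgroupOf H = sSup ((fun S : Subgroup G => S.subgroupOf H) '' T) := by
    apply Subgroup.map_injective H.subtype_injective
    rw [Subgroup.map_subgroupOf_eq_of_le hle]
    have h2 := (Subgroup.gc_map_comap H.subtype).l_sSup
      (s := ((fun S : Subgroup G => S.subgroupOf H) '' T))
    rw [h2, iSup_image, sSup_eq_iSup]
    refine iSup_congr fun S => iSup_congr fun hS => ?_
    exact (Subgroup.map_subgroupOf_eq_of_le (h S hS).1).symm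
  rw [h1]
  apply Cfsg.Agent.Lib.SubnormalJoin.isSubnormal_sSup
  rintro _ ⟨S, hS, rfl⟩
  exact (h S hS).2

/-- If `S` is subnormal but not normal in `W` then some `W`-conjugate `≠ S` of `S` normalizes `S`. -/
theorem SN.exists_cj {S W : Subgroup G} (h : SN S W) (hn : ¬ W ≤ Subgroup.normalizer (S : Set G)) :
    ∃ x ∈ W, Sn.cj x S ≠ S ∧ Sn.cj x S ≤ W ∧ Sn.cj x S ≤ Subgroup.normalizer (S : Set G) := by
  have hn' : ¬ (S.subgroupOf W).Normal := fun h1 =>
    hn ((Subgroup.normal_subgroupOf_iff_le_normalizer h.1).1 h1)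
  obtain ⟨x, hx1, hx2⟩ := Cfsg.Agent.Lib.SubnormalJoin.exists_conj_le_normalizer h.2 hn'
  have hconj : (MulAut.conj x • (S.subgroupOf W)).map W.subtype = Sn.cj (x : G) S := by
    ext y
    rw [Subgroup.mem_map, mem_cj]
    constructor
    · rintro ⟨z, hz, rfl⟩
      rw [Subgroup.mem_pointwise_smul_iff_inv_smul_mem, ← map_inv] at hz
      have h3 : (x : G)⁻¹ * (z : G) * ((x : G)⁻¹)⁻¹ ∈ S := hz
      rwa [inv_inv] at h3
    · intro hy
      have hyW : y ∈ W := by
        have h1 := W.mul_mem (W.mul_mem x.2 (h.1 hy)) (W.inv_mem x.2)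
        simpa [mul_assoc] using h1
      refine ⟨⟨y, hyW⟩, ?_, rfl⟩
      rw [Subgroup.mem_pointwise_smul_iff_inv_smul_mem, ← map_inv]
      change (x : G)⁻¹ * y * ((x : G)⁻¹)⁻¹ ∈ S
      rwa [inv_inv]
  refine ⟨x, x.2, ?_, ?_, ?_⟩
  · intro h1
    apply hx1
    apply Subgroup.map_injective W.subtype_injective
    rw [hconj, h1, Subgroup.map_subgroupOf_eq_of_le h.1]
  · rw [← hconj]
    exact Subgroup.map_subtype_le _
  · rw [← hconj]
    rintro _ ⟨z, hz, rfl⟩
    have h1 := hx2 hz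
    rw [← Subgroup.subgroupOf_normalizer_eq h.1] at h1
    exact h1

/-- `NC A H`: `A ≤ H` and the normal closure of `A` in `H` is `H`. -/
def NC (A H : Subgroup G) : Prop :=
  A ≤ H ∧ ∀ N : Subgroup G, A ≤ N → N ≤ H → H ≤ Subgroup.normalizer (N : Set G) → N = H

theorem nc_iff {A H : Subgroup G} (hA : A ≤ H) :
    NC A H ↔ Subgroup.normalClosure ((A.subgroupOf H : Subgroup H) : Set H) = ⊤ := by
  constructor
  · rintro ⟨_, h⟩
    have h1 := h ((Subgroup.normalClosure ((A.subgroupOf H : Subgroup H) : Set H)).map H.subtype) ?_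
      (Subgroup.map_subtype_le _) ?_
    · apply Subgroup.map_injective H.subtype_injective
      rw [h1, ← MonoidHom.range_eq_map, Subgroup.range_subtype]
    · intro a ha
      exact ⟨⟨a, hA ha⟩, Subgroup.subset_normalClosure ha, rfl⟩
    · rw [← Subgroup.normal_subgroupOf_iff_le_normalizer (Subgroup.map_subtype_le _)]
      have h2 : ((Subgroup.normalClosure ((A.subgroupOf H : Subgroup H) : Set H)).map H.subtype).subgroupOf H =
          Subgroup.normalClosure ((A.subgroupOf H : Subgroup H) : Set H) :=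
        Subgroup.comap_map_eq_self_of_injective H.subtype_injective _
      rw [h2]
      infer_instance
  · intro h
    refine ⟨hA, fun N h1 h2 h3 => le_antisymm h2 ?_⟩
    have h4 : (N.subgroupOf H).Normal := (Subgroup.normal_subgroupOf_iff_le_normalizer h2).2 h3
    have h5 : Subgroup.normalClosure ((A.subgroupOf H : Subgroup H) : Set H) ≤ N.subgroupOf H :=
      Subgroup.normalClosure_le_normal (fun x hx => h1 hx)
    rw [h, top_le_iff, Subgroup.subgroupOf_eq_top] at h5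
    exact h5

theorem NC.refl (A : Subgroup G) : NC A A := ⟨le_rfl, fun _ h1 h2 _ => le_antisymm h2 h1⟩

theorem NC.eq_of_normal {A H N : Subgroup G} (h : NC A H) (hAN : A ≤ N) (hNH : N ≤ H)
    (hn : H ≤ Subgroup.normalizer (N : Set G)) : N = H := h.2 N hAN hNH hn

/-- a subnormal subgroup containing `A` is everything -/
theorem NC.eq_of_sn {A H S : Subgroup G} (h : NC A H) (hAS : A ≤ S) (hS : SN S H) : S = H := by
  by_contra hne
  have h1 : S.subgroupOf H ≠ ⊤ := fun h2 => hne (le_antisymm hS.1 (Subgroup.subgroupOf_eq_top.1 h2))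
  obtain ⟨K, hK, hSK, hKt⟩ := hS.2.exists_normal_and_le_and_lt_top_of_ne h1
  have h2 := h.2 (K.map H.subtype) ?_ (Subgroup.map_subtype_le _) ?_
  · apply hKt.ne
    apply Subgroup.map_injective H.subtype_injective
    rw [h2, ← MonoidHom.range_eq_map, Subgroup.range_subtype]
  · intro a ha
    exact ⟨⟨a, h.1 ha⟩, hSK (hAS ha), rfl⟩
  · rw [← Subgroup.normal_subgroupOf_iff_le_normalizer (Subgroup.map_subtype_le _)]
    have h2 : (K.map H.subtype).subgroupOf H = K := Subgroup.comap_map_eq_self_of_injective H.subtype_injective _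
    rw [h2]
    exact hK

theorem NC.trans {A B H : Subgroup G} (h1 : NC A B) (h2 : NC B H) : NC A H := by
  refine ⟨h1.1.trans h2.1, fun N hAN hNH hn => ?_⟩
  apply h2.2 N _ hNH hn
  have h3 := h1.2 (N ⊓ B) (le_inf hAN h1.1) inf_le_right ?_
  · rw [← h3]; exact inf_le_left
  · intro b hb
    rw [Subgroup.mem_normalizer_iff]
    intro x
    have h4 := Subgroup.mem_normalizer_iff.1 (hn (h2.1 hb)) x
    rw [Subgroup.mem_inf, Subgroup.mem_inf, h4]
    constructor
    · rintro ⟨h5, h6⟩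
      exact ⟨h5, B.mul_mem (B.mul_mem hb h6) (B.inv_mem hb)⟩
    · rintro ⟨h5, h6⟩
      refine ⟨h5, ?_⟩
      have := B.mul_mem (B.mul_mem (B.inv_mem hb) h6) hb
      simpa [mul_assoc] using this

theorem NC.mono {A B H : Subgroup G} (h1 : NC A H) (hAB : A ≤ B) (hBH : B ≤ H) : NC B H :=
  ⟨hBH, fun N hBN hNH hn => h1.2 N (hAB.trans hBN) hNH hn⟩

theorem NC.sSup_mem {A : Subgroup G} {T : Set (Subgroup G)} (hne : T.Nonempty) (h : ∀ H ∈ T, NC A H) :
    NC A (sSup T) := by
  obtain ⟨H0, hH0⟩ := hne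
  refine ⟨(h H0 hH0).1.trans (le_sSup hH0), fun N hAN hNH hn => le_antisymm hNH ?_⟩
  apply sSup_le
  intro H hH
  have hHs : H ≤ sSup T := le_sSup hH
  have h3 := (h H hH).2 (N ⊓ H) (le_inf hAN (h H hH).1) inf_le_right ?_
  · rw [← h3]; exact inf_le_left
  · intro b hb
    rw [Subgroup.mem_normalizer_iff]
    intro x
    have h4 := Subgroup.mem_normalizer_iff.1 (hn (hHs hb)) x
    rw [Subgroup.mem_inf, Subgroup.mem_inf, h4]
    constructor
    · rintro ⟨h5, h6⟩
      exact ⟨h5, H.mul_mem (H.mul_mem hb h6) (H.inv_mem hb)⟩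
    · rintro ⟨h5, h6⟩
      refine ⟨h5, ?_⟩
      have := H.mul_mem (H.mul_mem (H.inv_mem hb) h6) hb
      simpa [mul_assoc] using this

theorem NC.cj {A H : Subgroup G} (h : NC A H) (g : G) : NC (Sn.cj g A) (Sn.cj g H) := by
  refine ⟨cj_le.2 h.1, fun N h1 h2 h3 => ?_⟩
  have h4 := h.2 (Sn.cj g⁻¹ N) ?_ ?_ ?_
  · rw [← h4, cj_cj_inv]
  · rw [← cj_inv_cj g A]; exact cj_le.2 h1
  · rw [← cj_inv_cj g H]; exact cj_le.2 h2
  · intro x hx
    rw [← cj_eq_self_iff, ← cj_mul]
    have h5 : g * x * g⁻¹ ∈ Subgroup.normalizer (N : Set G) := h3 (by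
      rw [mem_cj]
      have : g⁻¹ * (g * x * g⁻¹) * g = x := by group
      rw [this]; exact hx)
    rw [← cj_eq_self_iff] at h5
    calc Sn.cj (x * g⁻¹) N = Sn.cj (g⁻¹ * (g * x * g⁻¹)) N := by congr 1; group
      _ = Sn.cj g⁻¹ N := by rw [cj_mul, h5]

/-- **Subnormal closure.** -/
theorem exists_closure [Finite G] {A H : Subgroup G} (h : A ≤ H) : ∃ S : Subgroup G, SN S H ∧ NC A S := by
  have hfin : Set.Finite {S : Subgroup G | SN S H ∧ A ≤ S} := Set.toFinite _
  obtain ⟨S, hS⟩ := hfin.exists_minimal ⟨H, SN.refl H, h⟩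
  refine ⟨S, hS.prop.1, hS.prop.2, fun N h1 h2 h3 => ?_⟩
  have h4 : SN N H := (SN.of_normal h2 h3).trans hS.prop.1
  exact le_antisymm h2 (hS.le_of_le ⟨h4, h1⟩ h2)

end Cfsg.Agent.H486.Sn
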