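import Mathlib
import Cfsg.Agent.Schreier.Basic
import Cfsg.Agent.H486.Sn
import Cfsg.Agent.S0248
import Cfsg.Agent.PLocal.SL2Perfect
import Cfsg.Agent.FastGrp
import Cfsg.Agent.Prune
set_option linter.all false
prune_inst 0x7f00000000000000000000000000000000000000000000000000000000000000000000000000000000000000000000000000000000000000000000000000000000000000000000000000000000000000003fffffffffffffffffffffffffffbeffbdffffffff
open scoped Cfsg.Agent.FastGrp

-- part: H486/HgBase
section
/-!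
# Homogeneous finite groups: basic lemmas (helper486, for S3923/S3924)

`Homog G` : every isomorphism between subgroups of `G` is induced by an automorphism of `G`.
* `Homog.exists_aut` : every automorphism of a subgroup is induced;
* `inner_of_perfect` : under the Schreier property `Sch G`, an element of a perfect group of automorphisms of a
  subgroup `E` is induced by conjugation with an element of `G`.
-/

set_option autoImplicit false

namespace Cfsg.Agent.H486.Hg

open Subgroup Cfsg.Agent.Schreier.Basic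

universe u

/-- Every isomorphism between subgroups extends to an automorphism. -/
def Homog (G : Type*) [Group G] : Prop :=
  ∀ (A B : Subgroup G) (e : ↥A ≃* ↥B), ∃ φ : G ≃* G, ∀ a : ↥A, φ (a : G) = (e a : G)

variable {G : Type u} [Group G]

theorem Homog.exists_aut (h : Homog G) {E : Subgroup G} (f : MulAut E) :
    ∃ φ : MulAut G, ∀ x : E, φ (x : G) = (f x : G) := h E E f

/-- automorphisms of `G` inducing an element of `Π` on `E` -/
def lft (E : Subgroup G) (P : Subgroup (MulAut E)) : Subgroup (MulAut G) where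
  carrier := {φ | ∃ f ∈ P, ∀ x : E, φ (x : G) = (f x : G)}
  mul_mem' := by
    rintro φ ψ ⟨f, hf, h1⟩ ⟨g, hg, h2⟩
    refine ⟨f * g, P.mul_mem hf hg, fun x => ?_⟩
    rw [MulAut.mul_apply, h2, h1]
    rfl
  one_mem' := ⟨1, P.one_mem, fun _ => rfl⟩
  inv_mem' := by
    rintro φ ⟨f, hf, h1⟩
    refine ⟨f⁻¹, P.inv_mem hf, fun x => ?_⟩
    have h2 := h1 (f⁻¹ x)
    rw [MulAut.apply_inv_self] at h2
    rw [← h2, MulAut.inv_apply_self]

/-- restriction to `E` -/
noncomputable def lftHom (E : Subgroup G) (P : Subgroup (MulAut E)) : lft E P →* P where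
  toFun φ := ⟨φ.2.choose, φ.2.choose_spec.1⟩
  map_one' := by
    apply Subtype.ext
    apply MulEquiv.ext
    intro x
    apply Subtype.ext
    exact ((1 : lft E P).2.choose_spec.2 x).symm
  map_mul' φ ψ := by
    apply Subtype.ext
    apply MulEquiv.ext
    intro x
    apply Subtype.ext
    have h1 := (φ * ψ).2.choose_spec.2 x
    have h2 := ψ.2.choose_spec.2 x
    have h3 := φ.2.choose_spec.2 (ψ.2.choose x)
    refine h1.symm.trans ?_
    change (φ : MulAut G) ((ψ : MulAut G) x) = _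
    rw [h2, h3]
    rfl

theorem lftHom_spec (E : Subgroup G) (P : Subgroup (MulAut E)) (φ : lft E P) (x : E) :
    (φ : MulAut G) (x : G) = ((lftHom E P φ : MulAut E) x : G) := φ.2.choose_spec.2 x

theorem lftHom_surjective (hH : Homog G) (E : Subgroup G) (P : Subgroup (MulAut E)) :
    Function.Surjective (lftHom E P) := by
  rintro ⟨f, hf⟩
  obtain ⟨φ, hφ⟩ := hH.exists_aut f
  refine ⟨⟨φ, f, hf, hφ⟩, ?_⟩
  apply Subtype.ext
  apply MulEquiv.ext
  intro x
  apply Subtype.ext
  rw [← lftHom_spec]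
  exact hφ x

/-- A surjective homomorphism from a finite group onto a perfect group is surjective on a perfect subgroup. -/
theorem exists_perfect_cover {A B : Type*} [Group A] [Group B] [Finite A] (ρ : A →* B)
    (hρ : Function.Surjective ρ) (hB : ⁅(⊤ : Subgroup B), (⊤ : Subgroup B)⁆ = ⊤) :
    ∃ R : Subgroup A, ⁅R, R⁆ = R ∧ ∀ b : B, ∃ r ∈ R, ρ r = b := by
  have hanti : Antitone (derivedSeries A) := derivedSeries_antitone A
  have hst : ∃ n, derivedSeries A (n + 1) = derivedSeries A n := by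
    by_contra hcon
    push Not at hcon
    have hlt : ∀ n, derivedSeries A (n + 1) < derivedSeries A n := fun n =>
      lt_of_le_of_ne (hanti (Nat.le_succ n)) (hcon n)
    have hsa : StrictAnti (derivedSeries A) := strictAnti_nat_of_succ_lt hlt
    exact not_injective_infinite_finite _ hsa.injective
  obtain ⟨n, hn⟩ := hst
  have hB' : ∀ n, derivedSeries B n = ⊤ := by
    intro n
    induction n with
    | zero => rfl
    | succ n ih => rw [derivedSeries_succ, ih, hB]
  refine ⟨derivedSeries A n, by rw [← derivedSeries_succ, hn], fun b => ?_⟩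
  have h1 : b ∈ (derivedSeries A n).map ρ := by
    rw [map_derivedSeries_eq hρ, hB']
    trivial
  exact h1

/-- **An element of a perfect group of automorphisms of a subgroup is induced by conjugation.** -/
theorem inner_of_perfect [Finite G] (hS : Sch G) (hH : Homog G) (E : Subgroup G) {P : Subgroup (MulAut E)}
    (hP : ⁅P, P⁆ = P) {f : MulAut E} (hf : f ∈ P) : ∃ g : G, ∀ x : E, g * x * g⁻¹ = (f x : G) := by
  have hfin : Finite (MulAut G) := inferInstance
  have hP' : ⁅(⊤ : Subgroup P), (⊤ : Subgroup P)⁆ = ⊤ := by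
    apply (Subgroup.map_injective P.subtype_injective)
    rw [Subgroup.map_commutator, ← MonoidHom.range_eq_map, Subgroup.range_subtype, hP]
  obtain ⟨R, hR, hR2⟩ := exists_perfect_cover (lftHom E P) (lftHom_surjective hH E P) hP'
  obtain ⟨φ, hφ, hφf⟩ := hR2 ⟨f, hf⟩
  obtain ⟨g, hg⟩ := hS (R.map (lft E P).subtype) (map_perfect _ hR) ⟨φ, hφ, rfl⟩
  refine ⟨g, fun x => ?_⟩
  have h1 := DFunLike.congr_fun hg (x : G)
  rw [MulAut.conj_apply] at h1
  rw [h1]
  change (φ : MulAut G) x = _
  rw [lftHom_spec, hφf]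

end Cfsg.Agent.H486.Hg
end

-- part: H486/HgSyl
section
/-!
# Sylow subgroups of subgroups (helper486)

`IsSyl p Y P` : `P` is a Sylow `p`-subgroup of the subgroup `Y` of `G`, by cardinality.
-/

set_option autoImplicit false

namespace Cfsg.Agent.H486.Hg

open Subgroup Cfsg.Agent.H486.Sn

variable {G : Type*} [Group G]

/-- `P` is a Sylow `p`-subgroup of `Y`. -/
def IsSyl (p : ℕ) (Y P : Subgroup G) : Prop :=
  P ≤ Y ∧ IsPGroup p P ∧ ∀ Q ≤ Y, IsPGroup p Q → Nat.card Q ≤ Nat.card P

theorem IsSyl.le {p : ℕ} {Y P : Subgroup G} (h : IsSyl p Y P) : P ≤ Y := h.1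

theorem IsSyl.isPGroup {p : ℕ} {Y P : Subgroup G} (h : IsSyl p Y P) : IsPGroup p P := h.2.1

theorem IsSyl.restrict {p : ℕ} {Y Y' P : Subgroup G} (h : IsSyl p Y P) (h1 : P ≤ Y') (h2 : Y' ≤ Y) :
    IsSyl p Y' P := ⟨h1, h.2.1, fun Q hQ hQp => h.2.2 Q (hQ.trans h2) hQp⟩

theorem isPGroup_cj {p : ℕ} {P : Subgroup G} (h : IsPGroup p P) (g : G) : IsPGroup p (cj g P) := by
  intro x
  obtain ⟨x, hx⟩ := x
  rw [mem_cj] at hx
  obtain ⟨k, hk⟩ := h ⟨_, hx⟩
  refine ⟨k, Subtype.ext ?_⟩
  have h1 : (g⁻¹ * x * g) ^ p ^ k = 1 := congrArg Subtype.val hk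
  have h2 : g⁻¹ * x * g = g⁻¹ * x * (g⁻¹)⁻¹ := by rw [inv_inv]
  rw [h2, conj_pow] at h1
  have h3 : x ^ p ^ k = 1 := by
    have := congrArg (fun y => g * y * g⁻¹) h1
    simpa [mul_assoc] using this
  exact h3

section finite

variable [Finite G] {p : ℕ} [hp : Fact p.Prime]

theorem IsSyl.subgroupOf {Y P : Subgroup G} (h : IsSyl p Y P) :
    ∃ S : Sylow p Y, (S : Subgroup Y) = P.subgroupOf Y := by
  have h1 : IsPGroup p (P.subgroupOf Y) := h.2.1.comap_of_injective Y.subtype Y.subtype_injective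
  obtain ⟨S, hS⟩ := h1.exists_le_sylow
  refine ⟨S, ?_⟩
  symm
  apply Subgroup.eq_of_le_of_card_ge hS
  have h2 : IsPGroup p ((S : Subgroup Y).map Y.subtype) := S.isPGroup'.map _
  have h3 := h.2.2 _ (Subgroup.map_subtype_le _) h2
  rw [Subgroup.card_map_of_injective Y.subtype_injective] at h3
  rwa [Nat.card_congr (Subgroup.subgroupOfEquivOfLe h.1).toEquiv]

theorem isSyl_of_sylow {Y : Subgroup G} (S : Sylow p Y) : IsSyl p Y ((S : Subgroup Y).map Y.subtype) := by
  refine ⟨Subgroup.map_subtype_le _, S.isPGroup'.map _, fun Q hQ hQp => ?_⟩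
  have h1 : IsPGroup p (Q.subgroupOf Y) := hQp.comap_of_injective Y.subtype Y.subtype_injective
  obtain ⟨S', hS'⟩ := h1.exists_le_sylow
  rw [Subgroup.card_map_of_injective Y.subtype_injective, ← Nat.card_congr (Subgroup.subgroupOfEquivOfLe hQ).toEquiv]
  refine (Subgroup.card_le_of_le hS').trans ?_
  rw [Sylow.card_eq_multiplicity, Sylow.card_eq_multiplicity]

/-- Every `p`-subgroup of `Y` lies in a Sylow subgroup. -/
theorem exists_isSyl_ge {Y Q : Subgroup G} (hQ : Q ≤ Y) (hQp : IsPGroup p Q) :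
    ∃ P, IsSyl p Y P ∧ Q ≤ P := by
  have h1 : IsPGroup p (Q.subgroupOf Y) := hQp.comap_of_injective Y.subtype Y.subtype_injective
  obtain ⟨S, hS⟩ := h1.exists_le_sylow
  refine ⟨_, isSyl_of_sylow S, fun x hx => ⟨⟨x, hQ hx⟩, hS hx, rfl⟩⟩

theorem exists_isSyl (p : ℕ) [Fact p.Prime] (Y : Subgroup G) : ∃ P, IsSyl p Y P := by
  obtain ⟨P, hP, -⟩ := exists_isSyl_ge (p := p) (Y := Y) (Q := ⊥) bot_le (IsPGroup.of_bot)
  exact ⟨P, hP⟩

/-- Sylow's theorem: every `p`-subgroup of `Y` is conjugate in `Y` to a subgroup of `P`. -/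
theorem IsSyl.exists_conj_le {Y P Q : Subgroup G} (h : IsSyl p Y P) (hQ : Q ≤ Y) (hQp : IsPGroup p Q) :
    ∃ y ∈ Y, Q ≤ cj y P := by
  obtain ⟨S, hS⟩ := h.subgroupOf
  have h1 : IsPGroup p (Q.subgroupOf Y) := hQp.comap_of_injective Y.subtype Y.subtype_injective
  obtain ⟨S', hS'⟩ := h1.exists_le_sylow
  obtain ⟨y, hy⟩ := MulAction.exists_smul_eq Y S S'
  refine ⟨y, y.2, fun x hx => ?_⟩
  have h2 : (⟨x, hQ hx⟩ : Y) ∈ (S' : Subgroup Y) := hS' hx
  rw [← hy] at h2
  have h3 : y⁻¹ * ⟨x, hQ hx⟩ * y ∈ (S : Subgroup Y) := by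
    rw [Sylow.coe_subgroup_smul] at h2
    obtain ⟨s, hs, hs2⟩ := h2
    have : y⁻¹ * ⟨x, hQ hx⟩ * y = s := by
      rw [← hs2]
      change y⁻¹ * (y * s * y⁻¹) * y = s
      group
    rw [this]
    exact hs
  rw [hS] at h3
  rw [mem_cj]
  exact h3

theorem IsSyl.conj {Y P Q : Subgroup G} (h : IsSyl p Y P) (hQ : IsSyl p Y Q) : ∃ y ∈ Y, Q = cj y P := by
  obtain ⟨y, hy, hle⟩ := h.exists_conj_le hQ.1 hQ.2.1
  refine ⟨y, hy, Subgroup.eq_of_le_of_card_ge hle ?_⟩
  rw [card_cj]
  exact hQ.2.2 _ h.1 h.2.1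

theorem IsSyl.map {Y P : Subgroup G} (h : IsSyl p Y P) (φ : MulAut G) :
    IsSyl p (Y.map φ.toMonoidHom) (P.map φ.toMonoidHom) := by
  refine ⟨Subgroup.map_mono h.1, h.2.1.map _, fun Q hQ hQp => ?_⟩
  have h1 : Q.map φ.symm.toMonoidHom ≤ Y := by
    rintro _ ⟨q, hq, rfl⟩
    obtain ⟨y, hy, hy2⟩ := hQ hq
    have : φ.symm q = y := by rw [← hy2]; exact φ.symm_apply_apply y
    change φ.symm q ∈ Y
    rw [this]
    exact hy
  have h2 := h.2.2 _ h1 (hQp.map _)
  have h3 : Nat.card (P.map φ.toMonoidHom) = Nat.card P := Subgroup.card_map_of_injective φ.injective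
  have h4 : Nat.card (Q.map φ.symm.toMonoidHom) = Nat.card Q := Subgroup.card_map_of_injective φ.symm.injective
  rwa [h4, ← h3] at h2

/-- A `p`-element of `Y` normalising the Sylow subgroup `P` lies in `P`. -/
theorem IsSyl.mem_of_normalizes {Y P : Subgroup G} (h : IsSyl p Y P) {u : G} (hu : u ∈ Y)
    (hup : ∃ k, u ^ p ^ k = 1) (hn : u ∈ normalizer (P : Set G)) : u ∈ P := by
  have h1 : IsPGroup p (zpowers u) := by
    obtain ⟨k, hk⟩ := hup
    rintro ⟨_, i, rfl⟩
    refine ⟨k, Subtype.ext ?_⟩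
    change (u ^ i) ^ p ^ k = 1
    rw [← zpow_natCast, ← zpow_mul, mul_comm, zpow_mul, zpow_natCast, hk, one_zpow]
  have h2 : zpowers u ≤ normalizer (P : Set G) := by rwa [Subgroup.zpowers_le]
  have h3 : IsPGroup p (zpowers u ⊔ P : Subgroup G) := h1.to_sup_of_normal_right' h.2.1 h2
  have h4 := h.2.2 _ (sup_le (by rwa [Subgroup.zpowers_le]) h.1) h3
  have h5 : P = zpowers u ⊔ P := Subgroup.eq_of_le_of_card_ge le_sup_right h4
  rw [h5]
  exact Subgroup.mem_sup_left (Subgroup.mem_zpowers u)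

/-- A Sylow subgroup of `Y` meets a subgroup `C ≤ Y` normalised by `Y` in a Sylow subgroup. -/
theorem IsSyl.inf_normal {Y P C : Subgroup G} (h : IsSyl p Y P) (hC : C ≤ Y)
    (hn : ∀ y ∈ Y, ∀ c ∈ C, y * c * y⁻¹ ∈ C) : IsSyl p C (P ⊓ C) := by
  refine ⟨inf_le_right, h.2.1.to_le inf_le_left, fun Q hQ hQp => ?_⟩
  obtain ⟨y, hy, hle⟩ := h.exists_conj_le (hQ.trans hC) hQp
  have h1 : cj y C = C := by
    have : ∀ y ∈ Y, cj y C ≤ C := by
      intro y hy x hx
      rw [mem_cj] at hx
      have := hn y hy _ hx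
      have h2 : y * (y⁻¹ * x * y) * y⁻¹ = x := by group
      rwa [h2] at this
    apply le_antisymm (this y hy)
    have h2 := this y⁻¹ (Y.inv_mem hy)
    rw [cj_le_iff, inv_inv] at h2
    exact h2
  have h2 : Q ≤ cj y (P ⊓ C) := by
    rw [cj_inf, h1]
    exact le_inf hle hQ
  have h3 := Subgroup.card_le_of_le h2
  rwa [card_cj] at h3

end finite

end Cfsg.Agent.H486.Hg
end

-- part: H486/HgGL
section
/-!
# Homogeneous finite groups: matrices acting on elementary abelian subgroups (helper486)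
-/

set_option autoImplicit false
set_option linter.unusedSectionVars false

namespace Cfsg.Agent.H486.Hg

open Subgroup Cfsg.Agent.H486.Sn Cfsg.Agent.Schreier.Basic Matrix

universe u

section equiv

variable {A : Type*} [Group A] [Finite A] {p : ℕ} [hp : Fact p.Prime]

theorem equiv_aux {V : Type*} [AddCommGroup V] [Module (ZMod p) V] [Finite V] {k : ℕ} (hk : Nat.card V = p ^ k) :
    Nonempty (V ≃ₗ[ZMod p] (Fin k → ZMod p)) := by
  have : Module.Finite (ZMod p) V := Module.Finite.of_finite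
  have h1 : Module.finrank (ZMod p) V = k := by
    have h2 : Nat.card V = Nat.card (ZMod p) ^ Module.finrank (ZMod p) V :=
      Module.natCard_eq_pow_finrank
    rw [Nat.card_zmod, hk] at h2
    exact (Nat.pow_right_injective hp.out.two_le h2).symm
  exact ⟨(Module.finBasisOfFinrankEq (ZMod p) V h1).equivFun⟩

/-- An elementary abelian group of order `p ^ k`. -/
theorem exists_equiv {k : ℕ} (hc : ∀ x y : A, x * y = y * x) (he : ∀ x : A, x ^ p = 1) (hk : Nat.card A = p ^ k) :
    Nonempty (A ≃* Multiplicative (Fin k → ZMod p)) := by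
  let _ : CommGroup A := { (inferInstance : Group A) with mul_comm := hc }
  let _ : Module (ZMod p) (Additive A) := AddCommGroup.zmodModule (fun x => by
    have := he (Additive.toMul x)
    exact congrArg Additive.ofMul this)
  obtain ⟨c⟩ := equiv_aux (p := p) (V := Additive A) hk
  exact ⟨AddEquiv.toMultiplicativeRight c.toAddEquiv⟩

theorem basis2_aux {V : Type*} [AddCommGroup V] [Module (ZMod p) V] [Finite V] (hk : Nat.card V = p ^ 2) {z e : V}
    (hz : z ≠ 0) (hze : ∀ a : ZMod p, a • z ≠ e) :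
    ∃ c : V ≃ₗ[ZMod p] (Fin 2 → ZMod p), c z = ![1, 0] ∧ c e = ![0, 1] := by
  have : Module.Finite (ZMod p) V := Module.Finite.of_finite
  have h1 : Module.finrank (ZMod p) V = 2 := by
    have h2 : Nat.card V = Nat.card (ZMod p) ^ Module.finrank (ZMod p) V :=
      Module.natCard_eq_pow_finrank
    rw [Nat.card_zmod, hk] at h2
    exact (Nat.pow_right_injective hp.out.two_le h2).symm
  have hli : LinearIndependent (ZMod p) ![z, e] := by
    rw [LinearIndependent.pair_iff' hz]
    exact hze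
  let b : Module.Basis (Fin 2) (ZMod p) V :=
    basisOfLinearIndependentOfCardEqFinrank hli (by rw [h1]; simp)
  have hb0 : b 0 = z := by simp [b]
  have hb1 : b 1 = e := by simp [b]
  refine ⟨b.equivFun, ?_, ?_⟩
  · rw [← hb0]
    ext i
    fin_cases i <;> simp
  · rw [← hb1]
    ext i
    fin_cases i <;> simp

/-- The coordinates given by two independent elements. -/
theorem exists_basis2 (hc : ∀ x y : A, x * y = y * x) (he : ∀ x : A, x ^ p = 1) (hk : Nat.card A = p ^ 2) {z e : A}
    (hz : z ≠ 1) (hze : e ∉ zpowers z) :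
    ∃ c : A ≃* Multiplicative (Fin 2 → ZMod p), c z = Multiplicative.ofAdd ![1, 0] ∧
      c e = Multiplicative.ofAdd ![0, 1] := by
  let _ : CommGroup A := { (inferInstance : Group A) with mul_comm := hc }
  let _ : Module (ZMod p) (Additive A) := AddCommGroup.zmodModule (fun x => by
    have := he (Additive.toMul x)
    exact congrArg Additive.ofMul this)
  obtain ⟨c, h1, h2⟩ := basis2_aux (p := p) (V := Additive A) hk (z := Additive.ofMul z) (e := Additive.ofMul e) hz (by
    intro a ha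
    apply hze
    refine ⟨(a.val : ℤ), ?_⟩
    have h2 : ((a.val : ℕ) : ZMod p) • Additive.ofMul z = Additive.ofMul e := by
      rw [ZMod.natCast_val, ZMod.cast_id', id, ha]
    rw [Nat.cast_smul_eq_nsmul] at h2
    have h3 : z ^ a.val = e := h2
    change z ^ ((a.val : ℕ) : ℤ) = e
    rw [zpow_natCast, h3])
  exact ⟨AddEquiv.toMultiplicativeRight c.toAddEquiv, congrArg Multiplicative.ofAdd h1, congrArg Multiplicative.ofAdd h2⟩

end equiv

section aut

variable {G : Type u} [Group G] {p : ℕ} [hp : Fact p.Prime] {k : ℕ} {E : Subgroup G}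

/-- the automorphism of `E` given by a linear map in the coordinates `c` -/
noncomputable def autOf (c : E ≃* Multiplicative (Fin k → ZMod p))
    (L : (Fin k → ZMod p) ≃ₗ[ZMod p] (Fin k → ZMod p)) : MulAut E :=
  (c.trans (AddEquiv.toMultiplicative L.toAddEquiv)).trans c.symm

theorem autOf_apply (c : E ≃* Multiplicative (Fin k → ZMod p))
    (L : (Fin k → ZMod p) ≃ₗ[ZMod p] (Fin k → ZMod p)) (x : E) :
    autOf c L x = c.symm (Multiplicative.ofAdd (L (Multiplicative.toAdd (c x)))) := rfl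

noncomputable def slAut (c : E ≃* Multiplicative (Fin k → ZMod p)) :
    SpecialLinearGroup (Fin k) (ZMod p) →* MulAut E where
  toFun M := autOf c (SpecialLinearGroup.toLin' M)
  map_one' := by
    ext x
    rw [autOf_apply, map_one]
    simp
  map_mul' M N := by
    ext x
    rw [MulAut.mul_apply, autOf_apply, autOf_apply, autOf_apply, map_mul]
    simp

theorem slAut_apply (c : E ≃* Multiplicative (Fin k → ZMod p)) (M : SpecialLinearGroup (Fin k) (ZMod p)) (x : E) :
    slAut c M x = c.symm (Multiplicative.ofAdd (M.1.mulVec (Multiplicative.toAdd (c x)))) := by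
  change autOf c (SpecialLinearGroup.toLin' M) x = _
  rw [autOf_apply, SpecialLinearGroup.toLin'_apply, Matrix.toLin'_apply]

/-- `SL_k(p)` is perfect -/
theorem perfect_sl (h : 3 ≤ k ∨ (k = 2 ∧ 5 ≤ p)) : _root_.commutator (SpecialLinearGroup (Fin k) (ZMod p)) = ⊤ := by
  rcases h with h | ⟨rfl, h⟩
  · exact Cfsg.Agent.S0248.result k h
  · exact Cfsg.Agent.PLocal.SL2Perfect.commutator_eq_top (by omega) (by omega)

/-- **Every matrix of `SL_k(p)` is induced by conjugation**, in a homogeneous group with the Schreier property. -/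
theorem exists_inner_sl [Finite G] (hS : Sch G) (hH : Homog G) (c : E ≃* Multiplicative (Fin k → ZMod p))
    (h : 3 ≤ k ∨ (k = 2 ∧ 5 ≤ p)) (M : SpecialLinearGroup (Fin k) (ZMod p)) :
    ∃ g : G, ∀ x : E, g * x * g⁻¹ =
      (c.symm (Multiplicative.ofAdd (M.1.mulVec (Multiplicative.toAdd (c x)))) : G) := by
  have h1 : ⁅(slAut c).range, (slAut c).range⁆ = (slAut c).range := by
    rw [MonoidHom.range_eq_map, ← Subgroup.map_commutator, ← _root_.commutator_def, perfect_sl h]
  obtain ⟨g, hg⟩ := inner_of_perfect hS hH E h1 (f := slAut c M) ⟨M, rfl⟩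
  refine ⟨g, fun x => ?_⟩
  rw [hg x, slAut_apply]

end aut

end Cfsg.Agent.H486.Hg
end
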