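import Mathlib
import Cfsg.Agent.H486.HgGL
import Cfsg.Prelude.Def_CaseTheorems
import Cfsg.Agent.S0120
import Cfsg.Agent.S0126
import Cfsg.Agent.H821.SLTwo
import Cfsg.Agent.Lib.AutSL2
import Cfsg.Agent.S0262
import Cfsg.Agent.FastGrp
import Cfsg.Agent.Prune
set_option linter.all false
prune_inst 0x7ff8bdfbcff8bddfdfff7e7ffff9dffc39915fffefdff94bffe8e9ff1fdf03040bc5fbaf0de090fe5ed6601410b87813fb7eefffea6fdc7ffffd5ff41ffbee5ff5f7b508519498341fbe0fff03f07f8e7f3fffffffffffffffffffffffffffbeffbfffffffff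
open scoped Cfsg.Agent.FastGrp

-- part: H486/HgW
section
/-!
# Homogeneous finite groups: the inverting automorphism (helper486)

`exists_w` : for a `p`-group `P` (`p` odd) acting on the elementary abelian `E` there is an automorphism of `G` of
2-power order leaving `P` invariant and inverting `E`;
`exists_fixed` : every element of `P` acts on `E` as a fixed point of `w` in `P`.
-/

set_option autoImplicit false
set_option linter.unusedSectionVars false

namespace Cfsg.Agent.H486.Hg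

open Subgroup Cfsg.Agent.H486.Sn

universe u

variable {G : Type u} [Group G]

/-- the elements of `G` acting on `E` as elements of `P` -/
def YP (E P : Subgroup G) (h : ∀ a ∈ P, ∀ x ∈ E, a * x * a⁻¹ ∈ E) : Subgroup G where
  carrier := {g | ∃ a ∈ P, ∀ x ∈ E, g * x * g⁻¹ = a * x * a⁻¹}
  mul_mem' := by
    rintro g g' ⟨a, ha, h1⟩ ⟨b, hb, h2⟩
    refine ⟨a * b, P.mul_mem ha hb, fun x hx => ?_⟩
    have h3 : g * g' * x * (g * g')⁻¹ = g * (g' * x * g'⁻¹) * g⁻¹ := by group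
    rw [h3, h2 x hx, h1 _ (h b hb x hx)]
    group
  one_mem' := ⟨1, P.one_mem, fun _ _ => rfl⟩
  inv_mem' := by
    rintro g ⟨a, ha, h1⟩
    refine ⟨a⁻¹, P.inv_mem ha, fun x hx => ?_⟩
    have h2 := h a⁻¹ (P.inv_mem ha) x hx
    have h3 := h1 _ h2
    have h4 : a * (a⁻¹ * x * a⁻¹⁻¹) * a⁻¹ = x := by group
    rw [h4] at h3
    have h5 : g⁻¹ * (g * (a⁻¹ * x * a⁻¹⁻¹) * g⁻¹) * g = a⁻¹ * x * a⁻¹⁻¹ := by group
    rw [h3] at h5
    rw [inv_inv, h5]

theorem le_YP {E P : Subgroup G} {h : ∀ a ∈ P, ∀ x ∈ E, a * x * a⁻¹ ∈ E} : P ≤ YP E P h :=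
  fun a ha => ⟨a, ha, fun _ _ => rfl⟩

/-- the inversion on a commutative subgroup -/
def invE (E : Subgroup G) (hE : ∀ x ∈ E, ∀ y ∈ E, x * y = y * x) : MulAut E where
  toFun x := x⁻¹
  invFun x := x⁻¹
  left_inv x := inv_inv x
  right_inv x := inv_inv x
  map_mul' x y := by
    rw [mul_inv_rev]
    exact Subtype.ext (hE _ (E.inv_mem y.2) _ (E.inv_mem x.2))

section

variable [Finite G] {p : ℕ} [hp : Fact p.Prime]

theorem exists_w (hp2 : p ≠ 2) (hH : Homog G) {E P : Subgroup G} (hE : ∀ x ∈ E, ∀ y ∈ E, x * y = y * x)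
    (hPE : ∀ a ∈ P, ∀ x ∈ E, a * x * a⁻¹ ∈ E) (hP : IsSyl p (YP E P hPE) P) :
    ∃ w : MulAut G, (∃ a, w ^ 2 ^ a = 1) ∧ (∀ x ∈ P, w x ∈ P) ∧ ∀ x ∈ E, w x = x⁻¹ := by
  obtain ⟨φ, hφ⟩ := hH.exists_aut (invE E hE)
  have hφE : ∀ x ∈ E, φ x = x⁻¹ := fun x hx => hφ ⟨x, hx⟩
  set Y := YP E P hPE with hY
  have hmap : Y.map φ.toMonoidHom = Y := by
    apply Subgroup.eq_of_le_of_card_ge
    · rintro _ ⟨y, ⟨a, ha, h1⟩, rfl⟩
      refine ⟨a, ha, fun x hx => ?_⟩
      have h2 : φ y * x * (φ y)⁻¹ = φ (y * x⁻¹ * y⁻¹) := by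
        rw [map_mul, map_mul, map_inv, map_inv, hφE x hx, inv_inv]
      change φ y * x * (φ y)⁻¹ = _
      rw [h2, h1 _ (E.inv_mem hx), hφE _ (hPE a ha _ (E.inv_mem hx))]
      group
    · exact (Subgroup.card_map_of_injective φ.injective).ge
  have hP' : IsSyl p Y (P.map φ.toMonoidHom) := by
    have := hP.map φ
    rwa [hmap] at this
  obtain ⟨y, ⟨a, ha, hya⟩, hconj⟩ := hP.conj hP'
  set! w1 : MulAut G := MulAut.conj y⁻¹ * φ with hw1
  have hw1a : ∀ x, w1 x = y⁻¹ * φ x * y := by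
    intro x
    rw [hw1, MulAut.mul_apply, MulAut.conj_apply, inv_inv]
  have hw1P : ∀ x ∈ P, w1 x ∈ P := by
    intro x hx
    have h1 : φ x ∈ cj y P := by
      rw [← hconj]
      exact ⟨x, hx, rfl⟩
    rw [mem_cj] at h1
    rw [hw1a]
    exact h1
  have hinv : ∀ x ∈ E, y⁻¹ * x * y = a⁻¹ * x * a := by
    intro x hx
    have h2 := hPE a⁻¹ (P.inv_mem ha) x hx
    have h3 := hya _ h2
    have h4 : a * (a⁻¹ * x * a⁻¹⁻¹) * a⁻¹ = x := by group
    rw [h4] at h3
    have h5 : y⁻¹ * (y * (a⁻¹ * x * a⁻¹⁻¹) * y⁻¹) * y = a⁻¹ * x * a⁻¹⁻¹ := by group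
    rw [h3] at h5
    rw [h5, inv_inv]
  have hw1E : ∀ x ∈ E, w1 x = a⁻¹ * x⁻¹ * a := by
    intro x hx
    rw [hw1a, hφE x hx, hinv _ (E.inv_mem hx)]
  obtain ⟨n, hn⟩ := hP.isPGroup ⟨a, ha⟩
  have hn' : a ^ p ^ n = 1 := congrArg Subtype.val hn
  have hpow : ∀ k : ℕ, ∀ x ∈ E, (w1 ^ k) x = (a ^ k)⁻¹ * x ^ ((-1 : ℤ) ^ k) * a ^ k := by
    intro k
    induction k with
    | zero => intro x _; simp
    | succ k ih =>
      intro x hx
      have h1 : (a ^ k)⁻¹ * x ^ ((-1 : ℤ) ^ k) * a ^ k ∈ E := by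
        have := hPE (a ^ k)⁻¹ (P.inv_mem (P.pow_mem ha k)) _ (E.zpow_mem hx ((-1 : ℤ) ^ k))
        rwa [inv_inv] at this
      rw [pow_succ', MulAut.mul_apply, ih x hx, hw1E _ h1, pow_succ a k, pow_succ (-1 : ℤ) k, zpow_mul]
      simp only [zpow_neg, zpow_one]
      group
  have hodd : Odd (p ^ n) := (hp.out.odd_of_ne_two hp2).pow
  set! w2 : MulAut G := w1 ^ p ^ n with hw2
  have hw2E : ∀ x ∈ E, w2 x = x⁻¹ := by
    intro x hx
    rw [hw2, hpow _ x hx, hn', hodd.neg_one_pow]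
    simp
  have hpowP : ∀ (v : MulAut G), (∀ x ∈ P, v x ∈ P) → ∀ k : ℕ, ∀ x ∈ P, (v ^ k) x ∈ P := by
    intro v hv k
    induction k with
    | zero => intro x hx; exact hx
    | succ k ih =>
      intro x hx
      rw [pow_succ', MulAut.mul_apply]
      exact hv _ (ih x hx)
  have hw2P : ∀ x ∈ P, w2 x ∈ P := hpowP w1 hw1P _
  obtain ⟨v, m, hm, hvm⟩ := Nat.exists_eq_two_pow_mul_odd (orderOf_pos w2).ne'
  refine ⟨w2 ^ m, ⟨v, ?_⟩, hpowP w2 hw2P m, ?_⟩
  · rw [← pow_mul, mul_comm, ← hvm, pow_orderOf_eq_one]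
  · have h3 : ∀ k : ℕ, ∀ x ∈ E, (w2 ^ k) x = x ^ ((-1 : ℤ) ^ k) := by
      intro k
      induction k with
      | zero => intro x _; simp
      | succ k ih =>
        intro x hx
        rw [pow_succ', MulAut.mul_apply, ih x hx, hw2E _ (E.zpow_mem hx _), pow_succ, zpow_mul]
        simp only [_root_.Int.reduceNeg, _root_.zpow_neg, _root_.zpow_ofNat, _root_.pow_one]
    intro x hx
    rw [h3 m x hx, hm.neg_one_pow]
    simp

theorem fixed_trivial (hp2 : p ≠ 2) {E : Subgroup G} {w : MulAut G} (hw : ∀ x ∈ E, w x = x⁻¹)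
    (hmax : ∀ x, (∀ y ∈ E, x * y = y * x) → x ^ p = 1 → x ∈ E) {x : G} (hx : w x = x)
    (hxC : ∀ y ∈ E, x * y = y * x) (hxp : ∃ k, x ^ p ^ k = 1) : x = 1 := by
  by_contra hne
  obtain ⟨k, hk⟩ := hxp
  obtain ⟨j, hj, hj2⟩ := (Nat.dvd_prime_pow hp.out).1 (orderOf_dvd_of_pow_eq_one hk)
  have hj0 : j ≠ 0 := by
    rintro rfl
    rw [pow_zero] at hj2
    exact hne (orderOf_eq_one_iff.1 hj2)
  obtain ⟨i, rfl⟩ := Nat.exists_eq_succ_of_ne_zero hj0
  set! z := x ^ p ^ i with hz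
  have hzp : z ^ p = 1 := by
    rw [hz, ← pow_mul, ← pow_succ, ← Nat.succ_eq_add_one, ← hj2, pow_orderOf_eq_one]
  have hz1 : z ≠ 1 := by
    intro h
    have h1 := orderOf_dvd_of_pow_eq_one h
    rw [hj2, Nat.pow_dvd_pow_iff_le_right hp.out.one_lt] at h1
    omega
  have hzC : ∀ y ∈ E, z * y = y * z := fun y hy => (Commute.pow_left (hxC y hy) _)
  have hzE := hmax z hzC hzp
  have h1 := hw z hzE
  have h2 : w z = z := by rw [hz, map_pow, hx]
  rw [h2] at h1
  have h3 : z ^ 2 = 1 := by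
    rw [pow_two]
    nth_rewrite 1 [h1]
    exact inv_mul_cancel z
  have h4 : z ^ (Nat.gcd p 2) = 1 := by
    rw [pow_gcd_eq_one]
    exact ⟨hzp, h3⟩
  rw [(Nat.coprime_primes hp.out Nat.prime_two).2 hp2, pow_one] at h4
  exact hz1 h4

theorem exists_fixed (hp2 : p ≠ 2) {E P : Subgroup G}
    (hPE : ∀ a ∈ P, ∀ x ∈ E, a * x * a⁻¹ ∈ E) (hP : IsPGroup p P) {w : MulAut G} (hw2 : ∃ a, w ^ 2 ^ a = 1)
    (hwP : ∀ x ∈ P, w x ∈ P) (hwE : ∀ x ∈ E, w x = x⁻¹) {g : G} (hg : g ∈ P) :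
    ∃ b ∈ P, w b = b ∧ ∀ x ∈ E, b * x * b⁻¹ = g * x * g⁻¹ := by
  classical
  let Ω : Type u := {x : G // x ∈ P ∧ ∀ e ∈ E, x * e * x⁻¹ = g * e * g⁻¹}
  have hmap : ∀ x : G, (x ∈ P ∧ ∀ e ∈ E, x * e * x⁻¹ = g * e * g⁻¹) →
      (w x ∈ P ∧ ∀ e ∈ E, w x * e * (w x)⁻¹ = g * e * g⁻¹) := by
    rintro x ⟨h1, h2⟩
    refine ⟨hwP x h1, fun e he => ?_⟩
    have h3 : w x * e * (w x)⁻¹ = w (x * e⁻¹ * x⁻¹) := by
      rw [map_mul, map_mul, map_inv, map_inv, hwE e he, inv_inv]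
    rw [h3, h2 _ (E.inv_mem he), hwE _ (hPE g hg _ (E.inv_mem he))]
    group
  let f : Ω → Ω := fun x => ⟨w x.1, hmap x.1 x.2⟩
  have hf : Function.Injective f := by
    intro x y hxy
    exact Subtype.ext (w.injective (congrArg Subtype.val hxy))
  have : Fintype Ω := Fintype.ofFinite _
  let σ : Equiv.Perm Ω := Equiv.ofBijective f (Finite.injective_iff_bijective.1 hf)
  have hσ : ∀ (k : ℕ) (x : Ω), ((σ ^ k) x : G) = (w ^ k) x.1 := by
    intro k
    induction k with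
    | zero => intro x; rfl
    | succ k ih =>
      intro x
      rw [pow_succ', pow_succ', Equiv.Perm.mul_apply, MulAut.mul_apply, ← ih x]
      rfl
  obtain ⟨a, ha⟩ := hw2
  have hσ2 : σ ^ 2 ^ a = 1 := by
    ext x
    rw [hσ, ha]
    rfl
  have hcard : ∃ n, Fintype.card Ω = p ^ n := by
    let D : Subgroup P := (centralizer (E : Set G)).subgroupOf P
    obtain ⟨n, hn⟩ := IsPGroup.iff_card.1 (hP.to_subgroup D)
    refine ⟨n, ?_⟩
    rw [← hn, ← Nat.card_eq_fintype_card]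
    refine Nat.card_congr ?_
    refine
      { toFun := fun x => ⟨⟨g⁻¹ * x.1, P.mul_mem (P.inv_mem hg) x.2.1⟩, ?_⟩
        invFun := fun y => ⟨g * y.1.1, P.mul_mem hg y.1.2, ?_⟩
        left_inv := fun x => Subtype.ext (by simp)
        right_inv := fun y => Subtype.ext (Subtype.ext (by simp)) }
    · rw [Subgroup.mem_subgroupOf, mem_centralizer_iff]
      intro e he
      have h1 := x.2.2 e he
      have h2 : g⁻¹ * (x.1 * e * x.1⁻¹) * g = e := by rw [h1]; group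
      have h3 : e * (g⁻¹ * x.1) = g⁻¹ * (x.1 * e * x.1⁻¹) * g * (g⁻¹ * x.1) := by rw [h2]
      change e * (g⁻¹ * x.1) = g⁻¹ * x.1 * e
      rw [h3]
      group
    · intro e he
      have h1 := y.2
      rw [Subgroup.mem_subgroupOf, mem_centralizer_iff] at h1
      have h2 : e * y.1.1 = y.1.1 * e := h1 e he
      have h3 : g * y.1.1 * e * (g * y.1.1)⁻¹ = g * (y.1.1 * e) * y.1.1⁻¹ * g⁻¹ := by group
      rw [h3, ← h2]
      group
  obtain ⟨n, hn⟩ := hcard
  have hnd : ¬ 2 ∣ Fintype.card Ω := by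
    rw [hn]
    intro h
    exact hp2 ((Nat.prime_dvd_prime_iff_eq Nat.prime_two hp.out).1 (Nat.prime_two.dvd_of_dvd_pow h)).symm
  obtain ⟨b, hb⟩ := Equiv.Perm.exists_fixed_point_of_prime (p := 2) hnd hσ2
  exact ⟨b.1, b.2.1, congrArg Subtype.val hb, b.2.2⟩

end

end Cfsg.Agent.H486.Hg
end

-- part: H486/HgRank
section
/-!
# Homogeneous finite groups: `p`-rank at most 2 for `p` odd (helper486)

`prankLE_two` : a homogeneous finite group with the Schreier property has `p`-rank at most 2 for every odd prime `p`.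
-/

set_option autoImplicit false
set_option linter.unusedSectionVars false

namespace Cfsg.Agent.H486.Hg

open Subgroup Cfsg.Agent.H486.Sn Cfsg.Agent.Schreier.Basic Matrix

universe u

variable {G : Type u} [Group G]

/-- the subgroup generated by commuting elements of exponent `p` -/
theorem elem_closure {p : ℕ} {S : Set G} (hc : ∀ x ∈ S, ∀ y ∈ S, x * y = y * x) (he : ∀ x ∈ S, x ^ p = 1) :
    IsMulCommutative (closure S) ∧ ∀ x ∈ closure S, x ^ p = 1 := by
  have h1 : IsMulCommutative (closure S) := isMulCommutative_closure hc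
  refine ⟨h1, fun x hx => ?_⟩
  induction hx using closure_induction with
  | mem x hx => exact he x hx
  | one => exact one_pow p
  | mul x y hx hy h2 h3 =>
    have h4 : x * y = y * x := congrArg Subtype.val (h1.is_comm.comm (⟨x, hx⟩ : closure S) ⟨y, hy⟩)
    rw [(show Commute x y from h4).mul_pow, h2, h3, one_mul]
  | inv x hx h2 => rw [inv_pow, h2, inv_one]

theorem comm_of {A : Subgroup G} (h : IsMulCommutative A) : ∀ x ∈ A, ∀ y ∈ A, x * y = y * x :=
  fun x hx y hy => congrArg Subtype.val (h.is_comm.comm (⟨x, hx⟩ : A) ⟨y, hy⟩)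

section finite

variable [Finite G] {p : ℕ} [hp : Fact p.Prime]

/-- a maximal elementary abelian subgroup contains the elements of order `p` centralising it -/
theorem mem_of_max {E : Subgroup G} (hE : ∀ x ∈ E, ∀ y ∈ E, x * y = y * x) (hEp : ∀ x ∈ E, x ^ p = 1)
    (hmax : ∀ A : Subgroup G, IsMulCommutative A → (∀ a ∈ A, a ^ p = 1) → Nat.card A ≤ Nat.card E)
    {x : G} (hx : ∀ y ∈ E, x * y = y * x) (hxp : x ^ p = 1) : x ∈ E := by
  have h1 := elem_closure (p := p) (S := (E : Set G) ∪ {x}) (by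
    rintro a (ha | ha) b (hb | hb)
    · exact hE a ha b hb
    · rw [Set.mem_singleton_iff.1 hb]; exact (hx a ha).symm
    · rw [Set.mem_singleton_iff.1 ha]; exact hx b hb
    · rw [Set.mem_singleton_iff.1 ha, Set.mem_singleton_iff.1 hb]) (by
    rintro a (ha | ha)
    · exact hEp a ha
    · rw [Set.mem_singleton_iff.1 ha]; exact hxp)
  have h2 : E ≤ _root_.Subgroup.closure ((E : Set G) ∪ {x}) := fun y hy => _root_.Subgroup.subset_closure (Or.inl hy)
  have h3 : E = closure ((E : Set G) ∪ {x}) := Subgroup.eq_of_le_of_card_ge h2 (hmax _ h1.1 h1.2)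
  rw [h3]
  exact _root_.Subgroup.subset_closure (Or.inr rfl)

theorem exists_p_part (g : G) (n : ℕ) : ∃ t : ℕ, (∃ j, t = 1 + p ^ n * j) ∧ ∃ k, (g ^ t) ^ p ^ k = 1 := by
  obtain ⟨k, m, hm, hg⟩ := Nat.exists_eq_pow_mul_and_not_dvd (orderOf_pos g).ne' p hp.out.ne_one
  have hcop : Nat.Coprime (p ^ n) m := Nat.Coprime.pow_left n ((hp.out.coprime_iff_not_dvd).2 hm)
  obtain ⟨t, ht1, ht2⟩ := Nat.chineseRemainder hcop 1 0
  have hm0 : 0 < m := Nat.pos_of_ne_zero (by rintro rfl; exact hm (dvd_zero p))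
  have hpn : 0 < p ^ n := pow_pos hp.out.pos n
  have h1 : t + p ^ n * m ≡ 1 [MOD p ^ n] := by
    have : t + p ^ n * m ≡ t [MOD p ^ n] := by simp [Nat.ModEq]
    exact this.trans ht1
  have h2 : t + p ^ n * m ≡ 0 [MOD m] := by
    have : t + p ^ n * m ≡ t [MOD m] := by simp [Nat.ModEq]
    exact this.trans ht2
  have h3 : 1 ≤ t + p ^ n * m := by
    have := Nat.mul_pos hpn hm0
    omega
  refine ⟨t + p ^ n * m, ?_, k, ?_⟩
  · obtain ⟨j, hj⟩ := (Nat.modEq_iff_dvd' h3).1 h1.symm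
    exact ⟨j, by omega⟩
  · rw [← pow_mul]
    obtain ⟨i, hi⟩ := (Nat.modEq_zero_iff_dvd).1 h2
    rw [hi, mul_assoc, mul_comm i, ← mul_assoc, mul_comm m, pow_mul]
    have : g ^ (p ^ k * m) = 1 := by rw [← hg, pow_orderOf_eq_one]
    rw [this, one_pow]

/-- A Sylow `p`-subgroup of `Y` covers the `p`-part of the action on `E`. -/
theorem exists_act_eq {E Y P : Subgroup G} (hP : IsSyl p Y P) (hYE : ∀ y ∈ Y, ∀ x ∈ E, y * x * y⁻¹ ∈ E)
    (hab : ∀ y ∈ Y, ∀ y' ∈ Y, ∀ x ∈ E, y * (y' * x * y'⁻¹) * y⁻¹ = y' * (y * x * y⁻¹) * y'⁻¹)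
    {g : G} (hg : g ∈ Y) {n : ℕ} (hgn : ∀ x ∈ E, g ^ p ^ n * x * (g ^ p ^ n)⁻¹ = x) :
    ∃ a ∈ P, ∀ x ∈ E, a * x * a⁻¹ = g * x * g⁻¹ := by
  obtain ⟨t, ⟨j, rfl⟩, k, hk⟩ := exists_p_part (p := p) g n
  set u := g ^ (1 + p ^ n * j) with hu
  have huY : u ∈ Y := Y.pow_mem hg _
  have hact : ∀ x ∈ E, u * x * u⁻¹ = g * x * g⁻¹ := by
    intro x hx
    have h1 : ∀ j : ℕ, ∀ x ∈ E, (g ^ p ^ n) ^ j * x * ((g ^ p ^ n) ^ j)⁻¹ = x := by
      intro j
      induction j with
      | zero => intro x _; simp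
      | succ j ih =>
        intro x hx
        have h2 : (g ^ p ^ n) ^ (j + 1) * x * ((g ^ p ^ n) ^ (j + 1))⁻¹ =
            g ^ p ^ n * ((g ^ p ^ n) ^ j * x * ((g ^ p ^ n) ^ j)⁻¹) * (g ^ p ^ n)⁻¹ := by
          rw [pow_succ' (g ^ p ^ n)]; group
        rw [h2, ih x hx, hgn x hx]
    have h3 : u * x * u⁻¹ = g * ((g ^ p ^ n) ^ j * x * ((g ^ p ^ n) ^ j)⁻¹) * g⁻¹ := by
      rw [hu, pow_add, pow_one, pow_mul]; group
    rw [h3, h1 j x hx]
  have h1 : IsPGroup p (zpowers u) := by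
    rintro ⟨_, i, rfl⟩
    refine ⟨k, Subtype.ext ?_⟩
    change (u ^ i) ^ p ^ k = 1
    rw [← zpow_natCast, ← _root_.zpow_mul, mul_comm, _root_.zpow_mul, zpow_natCast, hk, _root_.one_zpow]
  obtain ⟨y, hy, hle⟩ := hP.exists_conj_le (by rwa [zpowers_le]) h1
  have h2 := hle (mem_zpowers u)
  rw [mem_cj] at h2
  refine ⟨_, h2, fun x hx => ?_⟩
  have h3 : y⁻¹ * u * y * x * (y⁻¹ * u * y)⁻¹ = y⁻¹ * (u * (y * x * y⁻¹) * u⁻¹) * y := by group
  rw [h3, hab u huY y hy x hx]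
  have h4 : y⁻¹ * (y * (u * x * u⁻¹) * y⁻¹) * y = u * x * u⁻¹ := by group
  rw [h4, hact x hx]

/-- the matrix `v ↦ v + v₀ h` -/
theorem exists_mat {n : ℕ} (h : Fin (n + 1) → ZMod p) (h0 : h 0 = 0) :
    ∃ M : _root_.Matrix.SpecialLinearGroup (Fin (n + 1)) (ZMod p), ∀ v, M.1.mulVec v = v + v 0 • h := by
  let r : Fin (n + 1) → ZMod p := Pi.single 0 1
  refine ⟨⟨1 + replicateCol Unit h * replicateRow Unit r, ?_⟩, fun v => ?_⟩
  · rw [det_one_add_replicateCol_mul_replicateRow]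
    simp [r, h0]
  · change (1 + replicateCol Unit h * replicateRow Unit r).mulVec v = _
    rw [add_mulVec, one_mulVec, ← mulVec_mulVec]
    congr 1
    ext i
    simp only [mulVec, dotProduct, replicateCol, replicateRow, r, Pi.single_apply, mul_comm, _root_.Matrix.mulVec, _root_.dotProduct, _root_.Finset.univ_unique, _root_.PUnit.default_eq_unit, _root_.Matrix.replicateCol, _root_.Matrix.of_apply, _root_.Matrix.replicateRow, _root_.Pi.single_apply, _root_.mul_comm, _root_.mul_ite, _root_.mul_one, _root_.MulZeroClass.mul_zero, _root_.Finset.sum_ite_eq', _root_.Finset.mem_univ, ↓ _root_.reduceIte, _root_.Finset.sum_const, _root_.Finset.card_singleton, _root_.one_smul, _root_.Pi.smul_apply, _root_.smul_eq_mul]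

/-- a maximal elementary abelian subgroup -/
theorem exists_max_elem (p : ℕ) : ∃ E : Subgroup G, IsMulCommutative E ∧ (∀ a ∈ E, a ^ p = 1) ∧
    ∀ A : Subgroup G, IsMulCommutative A → (∀ a ∈ A, a ^ p = 1) → Nat.card A ≤ Nat.card E := by
  have h1 : Finite {A : Subgroup G // IsMulCommutative A ∧ ∀ a ∈ A, a ^ p = 1} := Subtype.finite
  have h2 : Nonempty {A : Subgroup G // IsMulCommutative A ∧ ∀ a ∈ A, a ^ p = 1} :=
    ⟨⟨⊥, inferInstance, fun a ha => by rw [mem_bot.1 ha, one_pow]⟩⟩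
  obtain ⟨E, hE⟩ := Finite.exists_max (fun A : {A : Subgroup G // IsMulCommutative A ∧ ∀ a ∈ A, a ^ p = 1} =>
    Nat.card A.1)
  exact ⟨E.1, E.2.1, E.2.2, fun A h3 h4 => hE ⟨A, h3, h4⟩⟩

section sh

variable {E : Subgroup G} {n : ℕ} (c : E ≃* Multiplicative (Fin (n + 1) → ZMod p))

/-- the transvection `v ↦ v + v₀ h` in the coordinates `c` -/
noncomputable def sh (h : Fin (n + 1) → ZMod p) (x : E) : E :=
  c.symm (Multiplicative.ofAdd (Multiplicative.toAdd (c x) + Multiplicative.toAdd (c x) 0 • h))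

theorem c_sh (h : Fin (n + 1) → ZMod p) (x : E) :
    Multiplicative.toAdd (c (sh c h x)) = Multiplicative.toAdd (c x) + Multiplicative.toAdd (c x) 0 • h := by
  rw [sh, MulEquiv.apply_symm_apply]
  rfl

theorem sh_sh {h h' : Fin (n + 1) → ZMod p} (h0 : h' 0 = 0) (x : E) : sh c h (sh c h' x) = sh c (h' + h) x := by
  apply c.injective
  apply Multiplicative.toAdd.injective
  rw [c_sh, c_sh, c_sh]
  simp [h0, add_assoc]

theorem sh_zero (x : E) : sh c 0 x = x := by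
  apply c.injective
  apply Multiplicative.toAdd.injective
  rw [c_sh]
  simp

theorem sh_inj {h h' : Fin (n + 1) → ZMod p} (hh : ∀ x, sh c h x = sh c h' x) : h = h' := by
  have h1 := hh (c.symm (Multiplicative.ofAdd (Pi.single 0 1)))
  have h2 := congrArg (fun z => Multiplicative.toAdd (c z)) h1
  simp only [c_sh, MulEquiv.apply_symm_apply, toAdd_ofAdd, Pi.single_eq_same, one_smul] at h2
  exact add_left_cancel h2

theorem sh_fix {h : Fin (n + 1) → ZMod p} {x : E} (hx : Multiplicative.toAdd (c x) 0 = 0) : sh c h x = x := by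
  apply c.injective
  apply Multiplicative.toAdd.injective
  rw [c_sh, hx]
  simp

/-- `g` acts on `E` as the transvection `h` -/
def ActSh (g : G) (h : Fin (n + 1) → ZMod p) : Prop := ∀ x : E, g * x * g⁻¹ = (sh c h x : G)

variable {c}

theorem ActSh.mul {g g' : G} {h h' : Fin (n + 1) → ZMod p} (h1 : ActSh c g h) (h2 : ActSh c g' h') (h0 : h' 0 = 0) :
    ActSh c (g * g') (h' + h) := by
  intro x
  have h3 : g * g' * x * (g * g')⁻¹ = g * (g' * x * g'⁻¹) * g⁻¹ := by group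
  rw [h3, h2 x, h1, sh_sh c h0]

theorem ActSh.one : ActSh c (1 : G) 0 := by
  intro x
  rw [sh_zero]
  group

theorem ActSh.inv {g : G} {h : Fin (n + 1) → ZMod p} (h1 : ActSh c g h) (h0 : h 0 = 0) : ActSh c g⁻¹ (-h) := by
  intro x
  have h2 := h1 (sh c (-h) x)
  rw [sh_sh c (by simp [h0])] at h2
  have h3 : -h + h = 0 := neg_add_cancel h
  rw [h3, sh_zero] at h2
  have h4 : g⁻¹ * (g * (sh c (-h) x : G) * g⁻¹) * g = sh c (-h) x := by group
  rw [h2] at h4
  rw [inv_inv, h4]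

theorem ActSh.pow {g : G} {h : Fin (n + 1) → ZMod p} (h1 : ActSh c g h) (h0 : h 0 = 0) (m : ℕ) :
    ActSh c (g ^ m) (m • h) := by
  induction m with
  | zero => rw [pow_zero, zero_smul]; exact ActSh.one
  | succ m ih =>
    rw [pow_succ, add_smul, one_smul, add_comm]
    exact ih.mul h1 h0

theorem ActSh.comm {g g' : G} {h h' : Fin (n + 1) → ZMod p} (h1 : ActSh c g h) (h2 : ActSh c g' h') (h0 : h 0 = 0)
    (h0' : h' 0 = 0) : ActSh c (g * g' * g⁻¹ * g'⁻¹) 0 := by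
  have h3 := ((h1.mul h2 h0').mul (h1.inv h0) (by simp [h0])).mul (h2.inv h0') (by simp [h0'])
  have h4 : -h' + (-h + (h' + h)) = 0 := by abel
  rwa [h4] at h3

theorem ActSh.unique {g : G} {h h' : Fin (n + 1) → ZMod p} (h1 : ActSh c g h) (h2 : ActSh c g h') : h = h' :=
  sh_inj c fun x => Subtype.ext ((h1 x).symm.trans (h2 x))

theorem ActSh.centralises {g : G} (h1 : ActSh c g 0) : ∀ y ∈ E, g * y = y * g := by
  intro y hy
  have h2 := h1 ⟨y, hy⟩
  rw [sh_zero] at h2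
  have h3 : g * y * g⁻¹ * g = y * g := by rw [h2]
  rwa [inv_mul_cancel_right] at h3

variable (c) in
/-- the group of elements acting as a transvection -/
def YSh : Subgroup G where
  carrier := {g | ∃ h, h 0 = 0 ∧ ActSh c g h}
  mul_mem' := by
    rintro g g' ⟨h, h0, h1⟩ ⟨h', h0', h1'⟩
    exact ⟨h' + h, by simp [h0, h0'], h1.mul h1' h0'⟩
  one_mem' := ⟨0, rfl, ActSh.one⟩
  inv_mem' := by
    rintro g ⟨h, h0, h1⟩
    exact ⟨-h, by simp [h0], h1.inv h0⟩

end sh

/-- **The `p`-rank of a homogeneous group is at most 2 for odd `p`.** -/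
theorem prankLE_two (hS : Sch G) (hH : Homog G) (hp2 : p ≠ 2) : PRankLE p 2 G := by
  obtain ⟨E, hEc, hEp, hmax⟩ := exists_max_elem (G := G) p
  suffices h : Nat.card E ≤ p ^ 2 from fun A h1 h2 => (hmax A h1 h2).trans h
  by_contra hcon
  push Not at hcon
  have hE : ∀ x ∈ E, ∀ y ∈ E, x * y = y * x := comm_of hEc
  have hEP : IsPGroup p E := fun x => ⟨1, Subtype.ext (by simpa only [_root_.pow_one, _root_.SubmonoidClass.coe_pow, _root_.OneMemClass.coe_one] using hEp x x.2)⟩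
  obtain ⟨k, hk⟩ := IsPGroup.iff_card.1 hEP
  rw [hk] at hcon
  have hk2 : 2 < k := (Nat.pow_lt_pow_iff_right hp.out.one_lt).1 hcon
  obtain ⟨n, rfl⟩ : ∃ n, k = n + 1 := ⟨k - 1, by omega⟩
  obtain ⟨c⟩ := exists_equiv (A := E) (p := p) (k := n + 1) (fun x y => Subtype.ext (hE x x.2 y y.2))
    (fun x => Subtype.ext (by simpa only [_root_.SubmonoidClass.coe_pow, _root_.OneMemClass.coe_one] using hEp x x.2)) hk
  have hcE : ∀ x, (∀ y ∈ E, x * y = y * x) → x ^ p = 1 → x ∈ E := fun x h1 h2 => mem_of_max hE hEp hmax h1 h2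
  obtain ⟨P, hP⟩ := exists_isSyl p (YSh c)
  have hYE : ∀ y ∈ YSh c, ∀ x ∈ E, y * x * y⁻¹ ∈ E := by
    rintro y ⟨h, -, h1⟩ x hx
    rw [h1 ⟨x, hx⟩]
    exact (sh c h _).2
  have hPE : ∀ a ∈ P, ∀ x ∈ E, a * x * a⁻¹ ∈ E := fun a ha => hYE a (hP.le ha)
  have hYP : YP E P hPE ≤ YSh c := by
    rintro g ⟨a, ha, h1⟩
    obtain ⟨h, h0, h2⟩ := hP.le ha
    exact ⟨h, h0, fun x => (h1 x x.2).trans (h2 x)⟩
  obtain ⟨w, hw2, hwP, hwE⟩ := exists_w hp2 hH hE hPE (hP.restrict le_YP hYP)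
  -- the fixed points of `w` in `P`
  have hone : ∀ x ∈ P, w x = x → ActSh c x 0 → x = 1 := by
    intro x hx hwx hx0
    obtain ⟨k, hk⟩ := hP.isPGroup ⟨x, hx⟩
    exact fixed_trivial hp2 hwE hcE hwx hx0.centralises ⟨k, congrArg Subtype.val hk⟩
  have hfix : ∀ h : Fin n → ZMod p, ∃ b ∈ P, w b = b ∧ ActSh c b (Fin.cons 0 h : Fin (n + 1) → ZMod p) := by
    intro h
    set h' : Fin (n + 1) → ZMod p := Fin.cons 0 h with hh'
    have h0 : h' 0 = 0 := rfl
    obtain ⟨M, hM⟩ := exists_mat h' h0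
    obtain ⟨g, hg⟩ := exists_inner_sl hS hH c (Or.inl (by omega)) M
    have hgA : ActSh c g h' := by
      intro x
      rw [hg x, hM]
      rfl
    obtain ⟨a, ha, ha2⟩ := exists_act_eq (n := 1) hP hYE (by
      rintro y ⟨h1, h10, hy1⟩ y' ⟨h2, h20, hy2⟩ x hx
      rw [hy2 ⟨x, hx⟩, hy1 ⟨x, hx⟩, hy1, hy2, sh_sh c h20, sh_sh c h10, add_comm]) ⟨h', h0, hgA⟩ (by
      intro x hx
      have h1 := hgA.pow h0 (p ^ 1)
      have h2 : (p ^ 1) • h' = 0 := by
        ext i
        simp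
      rw [h2] at h1
      rw [h1 ⟨x, hx⟩, sh_zero])
    obtain ⟨b, hb, hwb, hb2⟩ := exists_fixed hp2 hPE hP.isPGroup hw2 hwP hwE ha
    exact ⟨b, hb, hwb, fun x => by rw [hb2 x x.2, ha2 x x.2, hgA x]⟩
  choose β hβP hβw hβA using hfix
  -- the elementary abelian subgroup generated by `HE` and `B`
  let T : Set G := {x | ∃ hx : x ∈ E, Multiplicative.toAdd (c ⟨x, hx⟩) 0 = 0} ∪
    {b | b ∈ P ∧ w b = b}
  have hBE : ∀ b ∈ P, ∀ x : G, ∀ hx : x ∈ E, Multiplicative.toAdd (c ⟨x, hx⟩) 0 = 0 → b * x = x * b := by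
    intro b hb x hx hx0
    obtain ⟨h, h0, h1⟩ := hP.le hb
    have h2 := h1 ⟨x, hx⟩
    rw [sh_fix c hx0] at h2
    have h3 : b * x * b⁻¹ * b = x * b := by rw [h2]
    rwa [inv_mul_cancel_right] at h3
  have hT := elem_closure (p := p) (S := T) (by
    rintro x (⟨hx, hx0⟩ | ⟨hx, hwx⟩) y (⟨hy, hy0⟩ | ⟨hy, hwy⟩)
    · exact hE x hx y hy
    · exact (hBE y hy x hx hx0).symm
    · exact hBE x hx y hy hy0
    · have h1 : x * y * x⁻¹ * y⁻¹ = 1 := by
        obtain ⟨h, h0, h2⟩ := hP.le hx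
        obtain ⟨h', h0', h2'⟩ := hP.le hy
        exact hone _ (P.mul_mem (P.mul_mem (P.mul_mem hx hy) (P.inv_mem hx)) (P.inv_mem hy))
          (by simp only [map_mul, map_inv, hwx, hwy]) (h2.comm h2' h0 h0')
      have h2 : x * y * x⁻¹ * y⁻¹ * (y * x) = y * x := by rw [h1, one_mul]
      have h3 : x * y * x⁻¹ * y⁻¹ * (y * x) = x * y := by group
      rw [← h3, h2]) (by
    rintro x (⟨hx, -⟩ | ⟨hx, hwx⟩)
    · exact hEp x hx
    · obtain ⟨h, h0, h2⟩ := hP.le hx
      have h3 := h2.pow h0 p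
      have h4 : p • h = 0 := by
        ext i
        simp
      rw [h4] at h3
      exact hone _ (P.pow_mem hx p) (by rw [map_pow, hwx]) h3)
  have hcard := hmax _ hT.1 hT.2
  let F : (Fin n → ZMod p) × (Fin n → ZMod p) → closure T := fun q =>
    ⟨(c.symm (Multiplicative.ofAdd (Fin.cons 0 q.1 : Fin (n + 1) → ZMod p)) : G) * β q.2,
      mul_mem (_root_.Subgroup.subset_closure (Or.inl ⟨(c.symm _).2, by
        have h1 : (⟨_, (c.symm (Multiplicative.ofAdd (Fin.cons 0 q.1 : Fin (n + 1) → ZMod p))).2⟩ : E) =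
          c.symm (Multiplicative.ofAdd (Fin.cons 0 q.1 : Fin (n + 1) → ZMod p)) := rfl
        rw [h1, MulEquiv.apply_symm_apply]
        rfl⟩)) (_root_.Subgroup.subset_closure (Or.inr ⟨hβP _, hβw _⟩))⟩
  have hF : Function.Injective F := by
    rintro ⟨q1, q2⟩ ⟨r1, r2⟩ hqr
    have h1 : (c.symm (Multiplicative.ofAdd (Fin.cons 0 q1 : Fin (n + 1) → ZMod p)) : G) * β q2 =
      (c.symm (Multiplicative.ofAdd (Fin.cons 0 r1 : Fin (n + 1) → ZMod p)) : G) * β r2 := congrArg Subtype.val hqr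
    have h0E : ∀ e : E, ActSh c (e : G) 0 := by
      intro e x
      rw [sh_zero, hE e e.2 x x.2]
      group
    have h2 : ∀ (e : E) (b : G) (h : Fin n → ZMod p), ActSh c b (Fin.cons 0 h : Fin (n + 1) → ZMod p) →
        ActSh c (e * b) (Fin.cons 0 h : Fin (n + 1) → ZMod p) := by
      intro e b h hb
      have := (h0E e).mul hb rfl
      rwa [add_zero] at this
    have h3 := h2 (c.symm (Multiplicative.ofAdd (Fin.cons 0 q1 : Fin (n + 1) → ZMod p))) _ _ (hβA q2)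
    rw [h1] at h3
    have h4 := h3.unique (h2 (c.symm (Multiplicative.ofAdd (Fin.cons 0 r1 : Fin (n + 1) → ZMod p))) _ _ (hβA r2))
    have h5 : q2 = r2 := Fin.cons_right_injective _ h4
    subst h5
    have h6 := mul_right_cancel h1
    have h7 := Multiplicative.ofAdd.injective (c.symm.injective (Subtype.ext h6))
    rw [Fin.cons_right_injective _ h7]
  have h1 := (Nat.card_le_card_of_injective F hF).trans hcard
  rw [Nat.card_prod, Nat.card_fun, Nat.card_zmod, Nat.card_fin, hk, ← pow_add,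
    Nat.pow_le_pow_iff_right hp.out.one_lt] at h1
  omega

end finite

end Cfsg.Agent.H486.Hg
end

-- part: H486/HgTool
section
/-!
# Homogeneous finite groups: tools for the Sylow subgroups for odd primes (helper486)
-/

set_option autoImplicit false
set_option linter.unusedSectionVars false

namespace Cfsg.Agent.H486.Hg

open Subgroup Cfsg.Agent.H486.Sn Cfsg.Agent.Schreier.Basic Matrix

universe u

variable {G : Type u} [Group G] [Finite G] {p : ℕ} [hp : Fact p.Prime]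

theorem mem_normalizer_fin {E : Subgroup G} {g : G} (h : ∀ x ∈ E, g * x * g⁻¹ ∈ E) :
    g ∈ normalizer (E : Set G) := by
  have h1 : cj g E = E := by
    apply Subgroup.eq_of_le_of_card_ge
    · intro x hx
      rw [mem_cj] at hx
      have h2 := h _ hx
      have h3 : g * (g⁻¹ * x * g) * g⁻¹ = x := by group
      rwa [h3] at h2
    · rw [card_cj]
  exact cj_eq_self_iff.1 h1

theorem mem_normalizer' {E : Subgroup G} {g : G} (h : g ∈ normalizer (E : Set G)) {x : G} (hx : x ∈ E) :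
    g * x * g⁻¹ ∈ E := (mem_normalizer_iff.1 h x).1 hx

/-- restriction of an automorphism to an invariant subgroup -/
noncomputable def restr (φ : MulAut G) (P : Subgroup G) (h : ∀ x ∈ P, φ x ∈ P) : MulAut P :=
  MulEquiv.ofBijective ((φ.toMonoidHom.comp P.subtype).codRestrict P (fun x => h x x.2))
    (Finite.injective_iff_bijective.1 (fun x y hxy => by
      have h1 : φ x = φ y := congrArg Subtype.val hxy
      exact Subtype.ext (φ.injective h1)))

theorem restr_apply (φ : MulAut G) (P : Subgroup G) (h : ∀ x ∈ P, φ x ∈ P) (x : P) :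
    (restr φ P h x : G) = φ x := rfl

theorem restr_pow (φ : MulAut G) (P : Subgroup G) (h : ∀ x ∈ P, φ x ∈ P) (n : ℕ) (x : P) :
    ((restr φ P h ^ n) x : G) = (φ ^ n) x := by
  induction n generalizing x with
  | zero => rfl
  | succ n ih =>
    rw [pow_succ, pow_succ, MulAut.mul_apply, MulAut.mul_apply, ih]
    rfl

/-- an automorphism of order prime to `p` on the `p`-subgroup `P` fixing the elements of order `p` -/
theorem fix_of_omega (hp2 : p ≠ 2) {P : Subgroup G} (hP : IsPGroup p P) {φ : MulAut G} (h : ∀ x ∈ P, φ x ∈ P)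
    {n : ℕ} (hn : Nat.Coprime n p) (hφ : ∀ x ∈ P, (φ ^ n) x = x) (hΩ : ∀ x ∈ P, x ^ p = 1 → φ x = x) :
    ∀ x ∈ P, φ x = x := by
  have h1 : restr φ P h ^ n = 1 := by
    apply MulEquiv.ext
    intro x
    apply Subtype.ext
    rw [restr_pow, hφ x x.2]
    rfl
  have h2 := Cfsg.Agent.S0120.result hp2 hP (restr φ P h)
    (Nat.Coprime.coprime_dvd_left (orderOf_dvd_of_pow_eq_one h1) hn) (fun x hx => by
      apply Subtype.ext
      rw [restr_apply]
      exact hΩ x x.2 (by simpa only [_root_.SubmonoidClass.coe_pow, _root_.OneMemClass.coe_one] using congrArg Subtype.val hx))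
  intro x hx
  have h3 := DFunLike.congr_fun h2 (⟨x, hx⟩ : P)
  exact congrArg Subtype.val h3

theorem conj_pow_apply (g x : G) (n : ℕ) : ((MulAut.conj g) ^ n) x = g ^ n * x * (g ^ n)⁻¹ := by
  rw [← map_pow, MulAut.conj_apply]

/-- a `p`-element acting on a non-trivial `p`-group has a non-trivial fixed point -/
theorem exists_fixed_ne_one {A : Subgroup G} (hA : IsPGroup p A) (hne : A ≠ ⊥) {b : G} (hb : ∃ k, b ^ p ^ k = 1)
    (hbA : ∀ x ∈ A, b * x * b⁻¹ ∈ A) : ∃ z ∈ A, z ≠ 1 ∧ b * z * b⁻¹ = z := by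
  classical
  have : Fintype A := Fintype.ofFinite _
  obtain ⟨k, hk⟩ := hb
  let f : Function.End A := fun x => ⟨b * x * b⁻¹, hbA x x.2⟩
  have hf : ∀ (n : ℕ) (x : A), (((f ^ n : Function.End A) x : A) : G) = b ^ n * x * (b ^ n)⁻¹ := by
    intro n
    induction n with
    | zero => intro x; simp; rfl
    | succ n ih =>
      intro x
      have h1 : (f ^ (n + 1) : Function.End A) x = (f ^ n : Function.End A) (f x) := by
        rw [pow_succ]; rfl
      rw [h1, ih, pow_succ]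
      change b ^ n * (b * x * b⁻¹) * (b ^ n)⁻¹ = _
      group
  have hfk : f ^ p ^ k = 1 := by
    funext x
    apply Subtype.ext
    rw [hf, hk]
    simp
    rfl
  have h1 := Equiv.Perm.card_fixedPoints_modEq (p := p) (n := k) hfk
  have h2 : p ∣ Fintype.card A := by
    obtain ⟨n, hn⟩ := IsPGroup.iff_card.1 hA
    have hn0 : n ≠ 0 := by
      rintro rfl
      rw [pow_zero, Subgroup.card_eq_one] at hn
      exact hne hn
    rw [← Nat.card_eq_fintype_card, hn]
    exact dvd_pow_self p hn0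
  have h3 : p ∣ Fintype.card (Function.fixedPoints f) := (Nat.ModEq.dvd_iff h1 dvd_rfl).1 h2
  have h4 : (1 : A) ∈ Function.fixedPoints f := by
    change f 1 = 1
    apply Subtype.ext
    change b * 1 * b⁻¹ = 1
    group
  have h5 : 1 < Fintype.card (Function.fixedPoints f) := by
    have h6 : 0 < Fintype.card (Function.fixedPoints f) := Fintype.card_pos_iff.2 ⟨⟨1, h4⟩⟩
    exact lt_of_lt_of_le hp.out.one_lt (Nat.le_of_dvd h6 h3)
  obtain ⟨z, hz⟩ := Fintype.exists_ne_of_one_lt_card h5 ⟨1, h4⟩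
  refine ⟨z.1, z.1.2, fun h => hz (Subtype.ext (Subtype.ext h)), congrArg Subtype.val z.2⟩

/-- the shape of a non-trivial action of a `p`-element on an elementary abelian group of order `p ^ 2` -/
theorem exists_trans {E : Subgroup G} (hE : ∀ x ∈ E, ∀ y ∈ E, x * y = y * x) (hEp : ∀ x ∈ E, x ^ p = 1)
    (hEc : Nat.card E = p ^ 2) {b : G} (hb : ∃ k, b ^ p ^ k = 1)
    (hbE : ∀ x ∈ E, b * x * b⁻¹ ∈ E) {e₀ : G} (he₀ : e₀ ∈ E) (hne : b * e₀ * b⁻¹ ≠ e₀) :
    ∃ z ∈ E, z ≠ 1 ∧ ∃ e ∈ E, e ∉ zpowers z ∧ b * z * b⁻¹ = z ∧ b * e * b⁻¹ = e * z := by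
  have hEP : IsPGroup p E := fun x => ⟨1, Subtype.ext (by simpa only [_root_.pow_one, _root_.SubmonoidClass.coe_pow, _root_.OneMemClass.coe_one] using hEp x x.2)⟩
  -- the commutator map
  let D : E →* G :=
    { toFun := fun x => (x : G)⁻¹ * (b * x * b⁻¹)
      map_one' := by simp
      map_mul' := fun x y => by
        have h1 : (x : G)⁻¹ * (b * x * b⁻¹) ∈ E := E.mul_mem (E.inv_mem x.2) (hbE x x.2)
        have h2 := hE _ h1 _ (E.inv_mem y.2)
        have h3 : ((x * y : E) : G)⁻¹ * (b * (x * y : E) * b⁻¹) =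
            (y : G)⁻¹ * ((x : G)⁻¹ * (b * x * b⁻¹)) * (b * y * b⁻¹) := by
          push_cast; group
        rw [h3, ← h2]; group }
  have hDE : D.range ≤ E := by
    rintro _ ⟨x, rfl⟩
    exact E.mul_mem (E.inv_mem x.2) (hbE x x.2)
  have hDb : ∀ x ∈ D.range, b * x * b⁻¹ ∈ D.range := by
    rintro _ ⟨x, rfl⟩
    refine ⟨⟨b * x * b⁻¹, hbE x x.2⟩, ?_⟩
    change (b * (x : G) * b⁻¹)⁻¹ * (b * (b * x * b⁻¹) * b⁻¹) = b * ((x : G)⁻¹ * (b * x * b⁻¹)) * b⁻¹
    group
  have hDe : D ⟨e₀, he₀⟩ ≠ 1 := by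
    intro h
    apply hne
    have h1 : e₀⁻¹ * (b * e₀ * b⁻¹) = 1 := h
    exact (inv_mul_eq_one.1 h1).symm
  have hDne : D.range ≠ ⊥ := by
    intro h
    have h1 : D ⟨e₀, he₀⟩ ∈ D.range := ⟨_, rfl⟩
    rw [h, mem_bot] at h1
    exact hDe h1
  have hDP : IsPGroup p D.range := hEP.to_le hDE
  -- `|im D| = p`
  have hker : D.ker ≠ ⊥ := by
    obtain ⟨z, hz, hz1, hz2⟩ := exists_fixed_ne_one hEP (by
      intro h
      rw [h, Subgroup.card_bot] at hEc
      exact absurd hEc.symm (Nat.one_lt_pow two_ne_zero hp.out.one_lt).ne') hb hbE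
    intro h
    have h1 : (⟨z, hz⟩ : E) ∈ D.ker := by
      rw [MonoidHom.mem_ker]
      change z⁻¹ * (b * z * b⁻¹) = 1
      rw [hz2, inv_mul_cancel]
    rw [h, mem_bot] at h1
    exact hz1 (congrArg Subtype.val h1)
  have hcard : Nat.card D.range = p := by
    have h1 : Nat.card D.ker * Nat.card D.range = p ^ 2 := by
      rw [← hEc, ← Subgroup.index_ker, Subgroup.card_mul_index]
    obtain ⟨i, hi⟩ := IsPGroup.iff_card.1 (hEP.to_subgroup D.ker)
    obtain ⟨j, hj⟩ := IsPGroup.iff_card.1 hDP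
    have hi0 : i ≠ 0 := by
      rintro rfl
      rw [pow_zero, Subgroup.card_eq_one] at hi
      exact hker hi
    have hj0 : j ≠ 0 := by
      rintro rfl
      rw [pow_zero, Subgroup.card_eq_one] at hj
      exact hDne hj
    rw [hi, hj, ← pow_add] at h1
    have h2 := Nat.pow_right_injective hp.out.two_le h1
    have h3 : j = 1 := by omega
    rw [hj, h3, pow_one]
  have hfixD : ∀ x ∈ D.range, b * x * b⁻¹ = x := by
    obtain ⟨z, hz, hz1, hz2⟩ := exists_fixed_ne_one hDP hDne hb hDb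
    have h1 : zpowers z = D.range := by
      apply Subgroup.eq_of_le_of_card_ge (zpowers_le.2 hz)
      rw [hcard, Nat.card_zpowers, orderOf_eq_prime (hEp z (hDE hz)) hz1]
    intro x hx
    rw [← h1] at hx
    obtain ⟨i, rfl⟩ := mem_zpowers_iff.1 hx
    rw [← conj_zpow, hz2]
  have he1 : D ⟨e₀, he₀⟩ ∈ D.range := ⟨_, rfl⟩
  refine ⟨D ⟨e₀, he₀⟩, hDE he1, hDe, e₀, he₀, ?_, hfixD _ he1, ?_⟩
  · intro h
    apply hne
    obtain ⟨i, hi⟩ := mem_zpowers_iff.1 h
    have h1 : e₀ ∈ D.range := by rw [← hi]; exact D.range.zpow_mem he1 i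
    exact hfixD _ h1
  · change _ = e₀ * (e₀⁻¹ * (b * e₀ * b⁻¹))
    group

end Cfsg.Agent.H486.Hg
end

-- part: H486/HgMat
section
/-!
# Homogeneous finite groups: matrices describing the action on an elementary abelian subgroup (helper486)
-/

set_option autoImplicit false
set_option linter.unusedSectionVars false

namespace Cfsg.Agent.H486.Hg

open Subgroup Cfsg.Agent.H486.Sn Cfsg.Agent.Schreier.Basic Matrix

universe u

variable {G : Type u} [Group G] {p : ℕ} [hp : Fact p.Prime] {E : Subgroup G} {k : ℕ}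
  (c : E ≃* Multiplicative (Fin k → ZMod p))

/-- the element `c⁻¹ (M (c x))` -/
noncomputable def mv (M : Matrix (Fin k) (Fin k) (ZMod p)) (x : E) : E :=
  c.symm (Multiplicative.ofAdd (M.mulVec (Multiplicative.toAdd (c x))))

theorem c_mv (M : Matrix (Fin k) (Fin k) (ZMod p)) (x : E) :
    Multiplicative.toAdd (c (mv c M x)) = M.mulVec (Multiplicative.toAdd (c x)) := by
  rw [mv, MulEquiv.apply_symm_apply]
  rfl

theorem mv_mv (M N : Matrix (Fin k) (Fin k) (ZMod p)) (x : E) : mv c M (mv c N x) = mv c (M * N) x := by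
  apply c.injective
  apply Multiplicative.toAdd.injective
  rw [c_mv, c_mv, c_mv, mulVec_mulVec]

theorem mv_mul (M : Matrix (Fin k) (Fin k) (ZMod p)) (x y : E) : mv c M (x * y) = mv c M x * mv c M y := by
  apply c.injective
  apply Multiplicative.toAdd.injective
  rw [map_mul, toAdd_mul, c_mv, c_mv, c_mv, map_mul, toAdd_mul, mulVec_add]

theorem mv_one (x : E) : mv c 1 x = x := by
  apply c.injective
  apply Multiplicative.toAdd.injective
  rw [c_mv, one_mulVec]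

theorem mv_neg (M : Matrix (Fin k) (Fin k) (ZMod p)) (x : E) : mv c (-M) x = (mv c M x)⁻¹ := by
  apply c.injective
  apply Multiplicative.toAdd.injective
  rw [map_inv, toAdd_inv, c_mv, c_mv, neg_mulVec]

theorem mv_inj {M N : Matrix (Fin k) (Fin k) (ZMod p)} (h : ∀ x, mv c M x = mv c N x) : M = N := by
  rw [Matrix.ext_iff_mulVec]
  intro v
  have h1 := congrArg (fun z => Multiplicative.toAdd (c z)) (h (c.symm (Multiplicative.ofAdd v)))
  simpa only [c_mv, MulEquiv.apply_symm_apply, toAdd_ofAdd] using h1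

/-- an endomorphism of `E` is given by a matrix -/
theorem exists_matrix (f : E →* E) : ∃ M : Matrix (Fin k) (Fin k) (ZMod p), ∀ x, f x = mv c M x := by
  let g : (Fin k → ZMod p) →+ (Fin k → ZMod p) :=
    { toFun := fun v => Multiplicative.toAdd (c (f (c.symm (Multiplicative.ofAdd v))))
      map_zero' := by simp only [_root_.ofAdd_zero, _root_.map_one, _root_.toAdd_one]
      map_add' := fun v w => by simp only [_root_.ofAdd_add, _root_.map_mul, _root_.toAdd_mul] }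
  let L : (Fin k → ZMod p) →ₗ[ZMod p] (Fin k → ZMod p) := g.toZModLinearMap p
  refine ⟨LinearMap.toMatrix' L, fun x => ?_⟩
  apply c.injective
  apply Multiplicative.toAdd.injective
  rw [c_mv, ← Matrix.toLin'_apply, Matrix.toLin'_toMatrix']
  change _ = Multiplicative.toAdd (c (f (c.symm (Multiplicative.ofAdd (Multiplicative.toAdd (c x))))))
  rw [ofAdd_toAdd, MulEquiv.symm_apply_apply]

/-- `g` acts on `E` as the matrix `M` -/
def ActM (g : G) (M : Matrix (Fin k) (Fin k) (ZMod p)) : Prop := ∀ x : E, g * x * g⁻¹ = (mv c M x : G)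

variable {c}

theorem ActM.mul {g g' : G} {M M' : Matrix (Fin k) (Fin k) (ZMod p)} (h : ActM c g M) (h' : ActM c g' M') :
    ActM c (g * g') (M * M') := by
  intro x
  have h3 : g * g' * x * (g * g')⁻¹ = g * (g' * x * g'⁻¹) * g⁻¹ := by group
  rw [h3, h' x, h, mv_mv]

theorem ActM.one : ActM c (1 : G) 1 := by
  intro x
  rw [mv_one]
  group

theorem ActM.unique {g : G} {M M' : Matrix (Fin k) (Fin k) (ZMod p)} (h : ActM c g M) (h' : ActM c g M') : M = M' :=
  mv_inj c fun x => Subtype.ext ((h x).symm.trans (h' x))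

theorem ActM.mem {g : G} {M : Matrix (Fin k) (Fin k) (ZMod p)} (h : ActM c g M) : ∀ x ∈ E, g * x * g⁻¹ ∈ E := by
  intro x hx
  rw [h ⟨x, hx⟩]
  exact (mv c M _).2

theorem ActM.inv {g : G} {M M' : Matrix (Fin k) (Fin k) (ZMod p)} (h : ActM c g M) (h1 : M * M' = 1) :
    ActM c g⁻¹ M' := by
  intro x
  have h2 := h (mv c M' x)
  rw [mv_mv, h1, mv_one] at h2
  rw [← h2]
  group

theorem ActM.eq_one_of_centralises {g : G} {M : Matrix (Fin k) (Fin k) (ZMod p)} (h : ActM c g M)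
    (hg : ∀ x ∈ E, g * x * g⁻¹ = x) : M = 1 := by
  refine mv_inj c fun x => Subtype.ext ?_
  rw [← h x, hg x x.2, mv_one]

theorem ActM.centralises {g : G} (h : ActM c g 1) : ∀ x ∈ E, g * x * g⁻¹ = x := by
  intro x hx
  rw [h ⟨x, hx⟩, mv_one]

variable (c) in
theorem exists_actM {g : G} (hg : ∀ x ∈ E, g * x * g⁻¹ ∈ E) : ∃ M, ActM c g M := by
  let f : E →* E :=
    { toFun := fun x => ⟨g * x * g⁻¹, hg x x.2⟩
      map_one' := Subtype.ext (by simp)
      map_mul' := fun x y => Subtype.ext (by push_cast; group) }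
  obtain ⟨M, hM⟩ := exists_matrix c f
  exact ⟨M, fun x => congrArg Subtype.val (hM x)⟩

/-- homogeneity: every invertible matrix is induced by an automorphism -/
theorem exists_autM (hH : Homog G) (c : E ≃* Multiplicative (Fin k → ZMod p)) {A B : Matrix (Fin k) (Fin k) (ZMod p)}
    (hAB : A * B = 1) (hBA : B * A = 1) : ∃ φ : MulAut G, ∀ x : E, φ x = (mv c A x : G) := by
  obtain ⟨φ, hφ⟩ := hH.exists_aut (autOf c (Matrix.toLin'OfInv hBA hAB))
  refine ⟨φ, fun x => ?_⟩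
  rw [hφ, autOf_apply]
  change ((c.symm (Multiplicative.ofAdd (Matrix.toLin' A (Multiplicative.toAdd (c x)))) : E) : G) = _
  rw [Matrix.toLin'_apply]
  rfl

theorem ActM.aut {g : G} {M A B : Matrix (Fin k) (Fin k) (ZMod p)} (h : ActM c g M) (hAB : A * B = 1)
    {φ : MulAut G} (hφ : ∀ x : E, φ x = (mv c A x : G)) : ActM c (φ g) (A * M * B) := by
  intro x
  have h1 : (x : G) = φ (mv c B x) := by rw [hφ, mv_mv, hAB, mv_one]
  rw [h1, ← map_inv, ← map_mul, ← map_mul, h, hφ, mv_mv, mv_mv, mul_assoc]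

end Cfsg.Agent.H486.Hg
end

-- part: H486/HgOdd
section
/-!
# Homogeneous finite groups: the Sylow subgroups for odd primes, I (helper486)

`St p E P` : `P` is a Sylow `p`-subgroup, `E` is a normal elementary abelian subgroup of order `p ^ 2` containing
all elements of order `p` of its centraliser.
-/

set_option autoImplicit false
set_option linter.unusedSectionVars false

namespace Cfsg.Agent.H486.Hg

open Subgroup Cfsg.Agent.H486.Sn Cfsg.Agent.Schreier.Basic Matrix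

universe u

variable {G : Type u} [Group G] [Finite G] {p : ℕ} [hp : Fact p.Prime]

/-- the setting -/
structure St (p : ℕ) (E P : Subgroup G) : Prop where
  hE : ∀ x ∈ E, ∀ y ∈ E, x * y = y * x
  hEp : ∀ x ∈ E, x ^ p = 1
  hEc : Nat.card E = p ^ 2
  hPE : ∀ a ∈ P, ∀ x ∈ E, a * x * a⁻¹ ∈ E
  hEP : E ≤ P
  hmax : ∀ x, (∀ y ∈ E, x * y = y * x) → x ^ p = 1 → x ∈ E
  hP : IsSyl p (⊤ : Subgroup G) P

theorem exists_St (hS : Sch G) (hH : Homog G) (hp2 : p ≠ 2) {P : Subgroup G} (hP : IsSyl p (⊤ : Subgroup G) P)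
    (hnc : ¬ IsCyclic P) : ∃ E : Subgroup G, St p E P := by
  obtain ⟨A, hAn, hA, hAc⟩ := Cfsg.Agent.S0126.result hp2 hP.isPGroup hnc
  have hE : ∀ x ∈ A.map P.subtype, ∀ y ∈ A.map P.subtype, x * y = y * x := by
    rintro _ ⟨x, hx, rfl⟩ _ ⟨y, hy, rfl⟩
    have h1 := congrArg Subtype.val (hA.1.is_comm.comm ⟨x, hx⟩ ⟨y, hy⟩)
    exact congrArg Subtype.val h1
  have hEp : ∀ x ∈ A.map P.subtype, x ^ p = 1 := by
    rintro _ ⟨x, hx, rfl⟩
    exact congrArg Subtype.val (hA.2 x hx)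
  have hEc : Nat.card (A.map P.subtype) = p ^ 2 := by
    rw [Subgroup.card_map_of_injective P.subtype_injective, hAc]
  refine ⟨A.map P.subtype, hE, hEp, hEc, ?_, Subgroup.map_subtype_le A, ?_, hP⟩
  · rintro a ha _ ⟨x, hx, rfl⟩
    exact ⟨_, hAn.conj_mem x hx ⟨a, ha⟩, rfl⟩
  · intro x hx hxp
    refine mem_of_max hE hEp (fun B hB1 hB2 => ?_) hx hxp
    rw [hEc]
    exact prankLE_two hS hH hp2 B hB1 hB2

namespace St

variable {E P : Subgroup G}

theorem isPGroupE (h : St p E P) : IsPGroup p E := h.hP.isPGroup.to_le h.hEP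

theorem P_le (h : St p E P) : P ≤ normalizer (E : Set G) := fun _ ha => mem_normalizer_fin (h.hPE _ ha)

theorem syl_of_le (h : St p E P) {Y : Subgroup G} (hY : P ≤ Y) : IsSyl p Y P := h.hP.restrict hY le_top

/-- the automorphism `w` -/
theorem exists_w' (h : St p E P) (hp2 : p ≠ 2) (hH : Homog G) :
    ∃ w : MulAut G, (∃ a, w ^ 2 ^ a = 1) ∧ (∀ x ∈ P, w x ∈ P) ∧ ∀ x ∈ E, w x = x⁻¹ :=
  exists_w hp2 hH h.hE h.hPE (h.syl_of_le le_YP)

theorem w_inverts (h : St p E P) (hp2 : p ≠ 2) {w : MulAut G} (hw2 : ∃ a, w ^ 2 ^ a = 1) (hwP : ∀ x ∈ P, w x ∈ P)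
    (hwE : ∀ x ∈ E, w x = x⁻¹) : ∀ x ∈ P, (∀ y ∈ E, x * y = y * x) → w x = x⁻¹ := by
  set! Q : Subgroup G := P ⊓ centralizer (E : Set G) with hQ
  have hQmem : ∀ x, x ∈ Q ↔ x ∈ P ∧ ∀ y ∈ E, x * y = y * x := by
    intro x
    rw [hQ, mem_inf, mem_centralizer_iff]
    exact and_congr_right fun _ => ⟨fun h1 y hy => (h1 y hy).symm, fun h1 y hy => (h1 y hy).symm⟩
  have hwQ : ∀ x ∈ Q, w x ∈ Q := by
    intro x hx
    rw [hQmem] at hx ⊢
    refine ⟨hwP x hx.1, fun y hy => ?_⟩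
    have h1 := hx.2 y⁻¹ (E.inv_mem hy)
    have h2 := congrArg w h1
    rw [map_mul, map_mul, hwE _ (E.inv_mem hy), inv_inv] at h2
    exact h2
  have hQP : IsPGroup p Q := h.hP.isPGroup.to_le inf_le_left
  obtain ⟨a, ha⟩ := hw2
  have hw2 : ∀ x ∈ Q, (w ^ 2) x = x := by
    refine fix_of_omega hp2 hQP (φ := w ^ 2) (fun x hx => ?_) (n := 2 ^ a) ?_ ?_ ?_
    · rw [pow_two, MulAut.mul_apply]
      exact hwQ _ (hwQ _ hx)
    · exact Nat.Coprime.pow_left a ((Nat.coprime_primes Nat.prime_two hp.out).2 hp2.symm)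
    · intro x _
      rw [← pow_mul, mul_comm, pow_mul, ha, one_pow]
      rfl
    · intro x hx hxp
      have h1 : x ∈ E := h.hmax x ((hQmem x).1 hx).2 hxp
      rw [pow_two, MulAut.mul_apply, hwE x h1, hwE _ (E.inv_mem h1), inv_inv]
  have hfp : ∀ x ∈ Q, w x = x → x = 1 := by
    intro x hx hwx
    obtain ⟨k, hk⟩ := hQP ⟨x, hx⟩
    exact fixed_trivial hp2 hwE h.hmax hwx ((hQmem x).1 hx).2 ⟨k, congrArg Subtype.val hk⟩
  let F : Q → Q := fun x => ⟨(x : G)⁻¹ * w x, Q.mul_mem (Q.inv_mem x.2) (hwQ x x.2)⟩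
  have hF : Function.Injective F := by
    intro x y hxy
    have h1 : (x : G)⁻¹ * w x = (y : G)⁻¹ * w y := congrArg Subtype.val hxy
    have h2 : w ((y : G) * (x : G)⁻¹) = (y : G) * (x : G)⁻¹ := by
      rw [map_mul, map_inv]
      have h3 : w y = (y : G) * ((x : G)⁻¹ * w x) := by rw [h1]; group
      rw [h3]; group
    have h3 := hfp _ (Q.mul_mem y.2 (Q.inv_mem x.2)) h2
    exact Subtype.ext (mul_inv_eq_one.1 h3).symm
  have hFs : Function.Surjective F := Finite.injective_iff_surjective.1 hF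
  intro x hx hxE
  obtain ⟨y, hy⟩ := hFs ⟨x, (hQmem x).2 ⟨hx, hxE⟩⟩
  have h1 : (y : G)⁻¹ * w y = x := congrArg Subtype.val hy
  have h2 : w (w y) = y := by
    have := hw2 y y.2
    rwa [pow_two, MulAut.mul_apply] at this
  rw [← h1, map_mul, map_inv, h2]
  group

/-- the centraliser of `E` in `P` is abelian -/
theorem comm (h : St p E P) (hp2 : p ≠ 2) (hH : Homog G) {x y : G} (hx : x ∈ P) (hy : y ∈ P)
    (hxE : ∀ e ∈ E, x * e = e * x) (hyE : ∀ e ∈ E, y * e = e * y) : x * y = y * x := by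
  obtain ⟨w, hw2, hwP, hwE⟩ := h.exists_w' hp2 hH
  have h1 := h.w_inverts hp2 hw2 hwP hwE x hx hxE
  have h2 := h.w_inverts hp2 hw2 hwP hwE y hy hyE
  have h3 := h.w_inverts hp2 hw2 hwP hwE _ (P.mul_mem hx hy) (fun e he => by
    rw [mul_assoc, hyE e he, ← mul_assoc, hxE e he, mul_assoc])
  rw [map_mul, h1, h2, _root_.mul_inv_rev] at h3
  have h4 : (x⁻¹ * y⁻¹)⁻¹ = (y⁻¹ * x⁻¹)⁻¹ := by rw [h3]
  rw [_root_.mul_inv_rev, _root_.mul_inv_rev, inv_inv, inv_inv] at h4
  exact h4.symm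

/-- if `P` centralises `E`, the `p`-elements of `N(E)` centralise `E` -/
theorem act_trivial (h : St p E P) (hC : ∀ a ∈ P, ∀ x ∈ E, a * x = x * a) {g : G}
    (hg : ∀ x ∈ E, g * x * g⁻¹ ∈ E) {n : ℕ} (hgn : ∀ x ∈ E, g ^ p ^ n * x * (g ^ p ^ n)⁻¹ = x) :
    ∀ x ∈ E, g * x * g⁻¹ = x := by
  obtain ⟨t, ⟨j, rfl⟩, k, hk⟩ := exists_p_part (p := p) g n
  set u := g ^ (1 + p ^ n * j) with hu
  have hact : ∀ x ∈ E, u * x * u⁻¹ = g * x * g⁻¹ := by
    intro x hx
    have h1 : ∀ j : ℕ, ∀ x ∈ E, (g ^ p ^ n) ^ j * x * ((g ^ p ^ n) ^ j)⁻¹ = x := by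
      intro j
      induction j with
      | zero => intro x _; simp
      | succ j ih =>
        intro x hx
        have h2 : (g ^ p ^ n) ^ (j + 1) * x * ((g ^ p ^ n) ^ (j + 1))⁻¹ =
            g ^ p ^ n * ((g ^ p ^ n) ^ j * x * ((g ^ p ^ n) ^ j)⁻¹) * (g ^ p ^ n)⁻¹ := by
          rw [pow_succ' (g ^ p ^ n)]; group
        rw [h2, ih x hx, hgn x hx]
    have h3 : u * x * u⁻¹ = g * ((g ^ p ^ n) ^ j * x * ((g ^ p ^ n) ^ j)⁻¹) * g⁻¹ := by
      rw [hu, pow_add, pow_one, pow_mul]; group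
    rw [h3, h1 j x hx]
  have hgN : g ∈ normalizer (E : Set G) := mem_normalizer_fin hg
  have huN : u ∈ normalizer (E : Set G) := pow_mem hgN _
  have h1 : IsPGroup p (zpowers u) := by
    rintro ⟨_, i, rfl⟩
    refine ⟨k, Subtype.ext ?_⟩
    change (u ^ i) ^ p ^ k = 1
    rw [← zpow_natCast, ← _root_.zpow_mul, mul_comm, _root_.zpow_mul, zpow_natCast, hk, _root_.one_zpow]
  obtain ⟨y, hy, hle⟩ := (h.syl_of_le h.P_le).exists_conj_le (by rwa [zpowers_le]) h1
  have h2 := hle (mem_zpowers u)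
  rw [mem_cj] at h2
  intro x hx
  rw [← hact x hx]
  have h3 : y⁻¹ * x * y ∈ E := by
    have := mem_normalizer' (inv_mem hy) hx
    rwa [inv_inv] at this
  have h4 := hC _ h2 _ h3
  have h5 : u * x * u⁻¹ = y * ((y⁻¹ * u * y) * (y⁻¹ * x * y)) * y⁻¹ * u⁻¹ := by group
  rw [h5, h4]
  group

/-- if `P` centralises `E` then `p = 3` -/
theorem lt_five (h : St p E P) (hS : Sch G) (hH : Homog G) (hC : ∀ a ∈ P, ∀ x ∈ E, a * x = x * a) : ¬ 5 ≤ p := by
  intro h5
  obtain ⟨c⟩ := exists_equiv (A := E) (p := p) (k := 2) (fun x y => Subtype.ext (h.hE x x.2 y y.2))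
    (fun x => Subtype.ext (by simpa only [_root_.SubmonoidClass.coe_pow, _root_.OneMemClass.coe_one] using h.hEp x x.2)) h.hEc
  obtain ⟨M, hM⟩ := exists_mat (p := p) (n := 1) ![0, 1] rfl
  obtain ⟨g, hg⟩ := exists_inner_sl hS hH c (Or.inr ⟨rfl, h5⟩) M
  have hgA : ActSh (n := 1) c g ![0, 1] := by
    intro x
    rw [hg x, hM]
    rfl
  have h1 := h.act_trivial hC (g := g) (fun x hx => by
    rw [hgA ⟨x, hx⟩]; exact (sh (n := 1) c _ _).2) (n := 1) (by
      intro x hx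
      have h1 := hgA.pow rfl (p ^ 1)
      have h2 : (p ^ 1) • (![0, 1] : Fin 2 → ZMod p) = 0 := by
        ext i
        simp
      rw [h2] at h1
      rw [h1 ⟨x, hx⟩, sh_zero])
  have h2 : ActSh (n := 1) c g 0 := fun x => by
    rw [sh_zero]; exact h1 x x.2
  have h3 := congrFun (hgA.unique h2) 1
  simp at h3

/-- a `p'`-part: `g ^ m` centralises `P` for some `m` prime to `p` -/
theorem exists_coprime (h : St p E P) (hcomm : ∀ x ∈ P, ∀ y ∈ P, x * y = y * x) {g : G}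
    (hg : g ∈ normalizer (P : Set G)) : ∃ m, Nat.Coprime m p ∧ ∀ x ∈ P, g ^ m * x * (g ^ m)⁻¹ = x := by
  obtain ⟨k, m, hm, hgo⟩ := Nat.exists_eq_pow_mul_and_not_dvd (orderOf_pos g).ne' p hp.out.ne_one
  refine ⟨m, ((hp.out.coprime_iff_not_dvd).2 hm).symm, fun x hx => ?_⟩
  have h1 : g ^ m ∈ P := by
    refine h.hP.mem_of_normalizes trivial ⟨k, ?_⟩ (pow_mem hg m)
    rw [← pow_mul, mul_comm, ← hgo, pow_orderOf_eq_one]
  rw [hcomm _ h1 x hx]
  group

/-- an element of `N(P)` centralising `E` centralises `P` -/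
theorem centralises_of (h : St p E P) (hp2 : p ≠ 2) (hcomm : ∀ x ∈ P, ∀ y ∈ P, x * y = y * x) {g : G}
    (hg : g ∈ normalizer (P : Set G)) (hgE : ∀ x ∈ E, g * x * g⁻¹ = x) : ∀ x ∈ P, g * x * g⁻¹ = x := by
  obtain ⟨m, hm, hgm⟩ := h.exists_coprime hcomm hg
  exact fix_of_omega hp2 h.hP.isPGroup (φ := MulAut.conj g) (fun x hx => mem_normalizer' hg hx) hm
    (fun x hx => by rw [conj_pow_apply, hgm x hx])
    (fun x hx hxp => hgE x (h.hmax x (fun y hy => hcomm x hx y (h.hEP hy)) hxp))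

/-- an element of `N(P)` inverting `E` inverts `P` -/
theorem inverts_of (h : St p E P) (hp2 : p ≠ 2) (hH : Homog G) (hcomm : ∀ x ∈ P, ∀ y ∈ P, x * y = y * x) {g : G}
    (hg : g ∈ normalizer (P : Set G)) (hgE : ∀ x ∈ E, g * x * g⁻¹ = x⁻¹) : ∀ x ∈ P, g * x * g⁻¹ = x⁻¹ := by
  obtain ⟨m, hm, hgm⟩ := h.exists_coprime hcomm hg
  obtain ⟨w, hw2, hwP, hwE⟩ := h.exists_w' hp2 hH
  have hwP' : ∀ x ∈ P, w x = x⁻¹ := fun x hx =>
    h.w_inverts hp2 hw2 hwP hwE x hx (fun y hy => hcomm x hx y (h.hEP hy))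
  have hgP : ∀ x ∈ P, g * x * g⁻¹ ∈ P := fun x hx => mem_normalizer' hg hx
  have hφ : ∀ x ∈ P, (w * MulAut.conj g) x = (g * x * g⁻¹)⁻¹ := fun x hx => by
    rw [MulAut.mul_apply, MulAut.conj_apply, hwP' _ (hgP x hx)]
  have h1 : ∀ x ∈ P, (w * MulAut.conj g) x = x := by
    refine fix_of_omega hp2 h.hP.isPGroup (φ := w * MulAut.conj g) (fun x hx => ?_) (n := 2 * m) ?_ ?_ ?_
    · rw [hφ x hx]; exact P.inv_mem (hgP x hx)
    · exact Nat.Coprime.mul_left ((Nat.coprime_primes Nat.prime_two hp.out).2 hp2.symm) hm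
    · have h2 : ∀ n : ℕ, ∀ x ∈ P, ((w * MulAut.conj g) ^ (2 * n)) x = g ^ (2 * n) * x * (g ^ (2 * n))⁻¹ := by
        intro n
        induction n with
        | zero => intro x _; simp
        | succ n ih =>
          intro x hx
          have h3 : 2 * (n + 1) = 2 * n + 1 + 1 := by ring
          have h4 : (w * MulAut.conj g) x ∈ P := by rw [hφ x hx]; exact P.inv_mem (hgP x hx)
          have h5 : (w * MulAut.conj g) ((w * MulAut.conj g) x) = g * (g * x * g⁻¹) * g⁻¹ := by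
            rw [hφ _ h4, hφ x hx]
            simp only [_root_.mul_inv_rev, inv_inv, mul_assoc]
          rw [h3, pow_succ, pow_succ, MulAut.mul_apply, MulAut.mul_apply, h5,
            ih _ (hgP _ (hgP x hx))]
          group
      intro x hx
      rw [h2 m x hx]
      have h3 : g ^ (2 * m) * x * (g ^ (2 * m))⁻¹ = g ^ m * (g ^ m * x * (g ^ m)⁻¹) * (g ^ m)⁻¹ := by
        rw [two_mul, pow_add]; group
      rw [h3, hgm x hx, hgm x hx]
    · intro x hx hxp
      have h2 : x ∈ E := h.hmax x (fun y hy => hcomm x hx y (h.hEP hy)) hxp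
      rw [hφ x hx, hgE x h2, inv_inv]
  intro x hx
  have h2 := h1 x hx
  rw [hφ x hx] at h2
  rw [← h2, inv_inv]
  rw [h2]

end St

section three

/-- 2×2-matrices over `𝔽₃` as tuples -/
abbrev T3 := ZMod 3 × ZMod 3 × ZMod 3 × ZMod 3

def mm (X Y : T3) : T3 :=
  (X.1 * Y.1 + X.2.1 * Y.2.2.1, X.1 * Y.2.1 + X.2.1 * Y.2.2.2,
    X.2.2.1 * Y.1 + X.2.2.2 * Y.2.2.1, X.2.2.1 * Y.2.1 + X.2.2.2 * Y.2.2.2)

def toM (X : T3) : Matrix (Fin 2) (Fin 2) (ZMod 3) := !![X.1, X.2.1; X.2.2.1, X.2.2.2]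

theorem toM_mm (X Y : T3) : toM (mm X Y) = toM X * toM Y := by
  simp only [toM, mm, _root_.Cfsg.Agent.H486.Hg.toM, _root_.Cfsg.Agent.H486.Hg.mm, _root_.Matrix.cons_mul, _root_.Nat.succ_eq_add_one, _root_.Nat.reduceAdd, _root_.Matrix.vecMul_cons, _root_.Matrix.head_cons, _root_.Matrix.smul_cons, _root_.smul_eq_mul, _root_.Matrix.smul_empty, _root_.Matrix.tail_cons, _root_.Matrix.empty_vecMul, _root_.add_zero, _root_.Matrix.add_cons, _root_.Matrix.empty_add_empty, _root_.Matrix.empty_mul, _root_.Equiv.symm_apply_apply]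

theorem toM_one : toM (1, 0, 0, 1) = 1 := by
  simp [toM, Matrix.one_fin_two]

theorem toM_neg : toM (2, 0, 0, 2) = -1 := by
  have : (2 : ZMod 3) = -1 := by decide
  simp [toM, Matrix.one_fin_two, this]

theorem toM_inj {X Y : T3} (h : toM X = toM Y) : X = Y := by
  have h00 := congrFun (congrFun h 0) 0
  have h01 := congrFun (congrFun h 0) 1
  have h10 := congrFun (congrFun h 1) 0
  have h11 := congrFun (congrFun h 1) 1
  simp only [toM, _root_.Cfsg.Agent.H486.Hg.toM, _root_.Fin.isValue, _root_.Matrix.of_apply, _root_.Matrix.cons_val', _root_.Matrix.cons_val_zero, _root_.Matrix.cons_val_fin_one, _root_.Matrix.cons_val_one] at h00 h01 h10 h11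
  exact Prod.ext h00 (Prod.ext h01 (Prod.ext h10 h11))

theorem exists_toM (M : Matrix (Fin 2) (Fin 2) (ZMod 3)) : ∃ X, toM X = M :=
  ⟨(M 0 0, M 0 1, M 1 0, M 1 1), (Matrix.eta_fin_two M).symm⟩

/-- the element `([X, A]) ^ 2` -/
def cm (X X' A B : T3) : T3 := mm (mm (mm X A) (mm X' B)) (mm (mm X A) (mm X' B))

/-- `Z` has order 3 -/
def ord3 (Z : T3) : Bool := decide (Z ≠ (1, 0, 0, 1)) && decide (mm Z (mm Z Z) = (1, 0, 0, 1))

def badB (X X' : T3) : Bool := ord3 (cm X X' (0, 1, 1, 0) (0, 1, 1, 0)) || ord3 (cm X X' (0, 1, 1, 1) (2, 1, 1, 0))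

def okB (X X' : T3) : Bool :=
  decide (mm X X' ≠ (1, 0, 0, 1)) || decide (X = (1, 0, 0, 1)) || decide (X = (2, 0, 0, 2)) ||
    decide (mm X X = (2, 0, 0, 2)) || badB X X'

theorem chk : ∀ X X' : T3, okB X X' = true := by
  have key : ∀ X : T3, ∀ a c : ZMod 3, X.1 * a + X.2.1 * c = 1 → X.2.2.1 * a + X.2.2.2 * c = 0 →
      ∀ b d : ZMod 3, okB X (a, b, c, d) = true := by decide +kernel
  rintro X ⟨a, b, c, d⟩
  by_cases h : mm X (a, b, c, d) = (1, 0, 0, 1)
  · exact key X a c (congrArg (·.1) h) (congrArg (·.2.2.1) h) b d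
  · unfold okB
    rw [decide_eq_true h]
    rfl

theorem chk' (X X' : T3) (h : mm X X' = (1, 0, 0, 1)) : X = (1, 0, 0, 1) ∨ X = (2, 0, 0, 2) ∨ mm X X = (2, 0, 0, 2) ∨
    ∃ A B, mm A B = (1, 0, 0, 1) ∧ mm B A = (1, 0, 0, 1) ∧ cm X X' A B ≠ (1, 0, 0, 1) ∧
      mm (cm X X' A B) (mm (cm X X' A B) (cm X X' A B)) = (1, 0, 0, 1) := by
  have h1 := chk X X'
  simp only [okB, badB, ord3, Bool.or_eq_true, decide_eq_true_eq, Bool.and_eq_true] at h1
  rcases h1 with (((h1 | h1) | h1) | h1) | (h1 | h1)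
  · exact absurd h h1
  · exact Or.inl h1
  · exact Or.inr (Or.inl h1)
  · exact Or.inr (Or.inr (Or.inl h1))
  · exact Or.inr (Or.inr (Or.inr ⟨_, _, by decide, by decide, h1.1, h1.2⟩))
  · exact Or.inr (Or.inr (Or.inr ⟨_, _, by decide, by decide, h1.1, h1.2⟩))

end three

/-- **The automizer of an abelian non-cyclic Sylow 3-subgroup.** -/
theorem St.three {E P : Subgroup G} (h : St 3 E P) (hH : Homog G) (hC : ∀ a ∈ P, ∀ x ∈ E, a * x = x * a) :
    (∀ x ∈ P, ∀ y ∈ P, x * y = y * x) ∧ ∀ g ∈ normalizer (P : Set G),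
        (∀ x ∈ P, g * x * g⁻¹ = x) ∨ (∀ x ∈ P, g * x * g⁻¹ = x⁻¹) ∨
          (∀ x ∈ P, g ^ 2 * x * (g ^ 2)⁻¹ = x⁻¹) := by
  have : Fact (Nat.Prime 3) := ⟨Nat.prime_three⟩
  have hcomm : ∀ x ∈ P, ∀ y ∈ P, x * y = y * x := fun x hx y hy => h.comm (by norm_num) hH hx hy (hC x hx) (hC y hy)
  refine ⟨hcomm, fun g hg => ?_⟩
  obtain ⟨c⟩ := exists_equiv (A := E) (p := 3) (k := 2) (fun x y => Subtype.ext (h.hE x x.2 y y.2))
    (fun x => Subtype.ext (by simpa only [_root_.SubmonoidClass.coe_pow, _root_.OneMemClass.coe_one] using h.hEp x x.2)) h.hEc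
  have hgE : ∀ g ∈ normalizer (P : Set G), ∀ x ∈ E, g * x * g⁻¹ ∈ E := by
    intro g hg x hx
    have h1 := mem_normalizer' hg (h.hEP hx)
    refine h.hmax _ (fun y hy => hcomm _ h1 _ (h.hEP hy)) ?_
    rw [conj_pow, h.hEp x hx]
    group
  obtain ⟨M, hM⟩ := exists_actM c (hgE g hg)
  obtain ⟨M', hM'⟩ := exists_actM c (hgE _ (inv_mem hg))
  obtain ⟨X, rfl⟩ := exists_toM M
  obtain ⟨X', rfl⟩ := exists_toM M'
  have h1 : ActM c (g * g⁻¹) (toM X * toM X') := hM.mul hM'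
  rw [mul_inv_cancel] at h1
  have h2 : mm X X' = (1, 0, 0, 1) := toM_inj (by rw [toM_mm, h1.unique ActM.one, toM_one])
  have hneg : ∀ g : G, ActM c g (toM (2, 0, 0, 2)) → ∀ x ∈ E, g * x * g⁻¹ = x⁻¹ := by
    intro g hg x hx
    have h1 := hg ⟨x, hx⟩
    rw [toM_neg, mv_neg, mv_one] at h1
    exact h1
  rcases chk' X X' h2 with h3 | h3 | h3 | ⟨A, B, hAB, hBA, h4, h5⟩
  · left
    subst h3
    rw [toM_one] at hM
    exact h.centralises_of (by norm_num) hcomm hg hM.centralises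
  · right; left
    subst h3
    exact h.inverts_of (by norm_num) hH hcomm hg (hneg g hM)
  · right; right
    have h4 := hM.mul hM
    rw [← toM_mm, h3, ← pow_two] at h4
    exact h.inverts_of (by norm_num) hH hcomm (pow_mem hg 2) (hneg _ h4)
  · exfalso
    have hAB' : toM A * toM B = 1 := by rw [← toM_mm, hAB, toM_one]
    have hBA' : toM B * toM A = 1 := by rw [← toM_mm, hBA, toM_one]
    obtain ⟨φ, hφ⟩ := exists_autM hH c hAB' hBA'
    have h6 : ActM c (g * φ g⁻¹) (toM X * (toM A * toM X' * toM B)) := hM.mul (hM'.aut hAB' hφ)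
    have h7 := h6.mul h6
    have h8 : toM X * (toM A * toM X' * toM B) * (toM X * (toM A * toM X' * toM B)) = toM (cm X X' A B) := by
      rw [cm, toM_mm, toM_mm, toM_mm, toM_mm]
      simp only [mul_assoc]
    rw [h8] at h7
    have h9 := h7.mul (h7.mul h7)
    rw [← toM_mm, ← toM_mm, h5, toM_one] at h9
    have h10 := h.act_trivial hC h7.mem (n := 1) (by
      intro x hx
      have h11 := h9.centralises x hx
      have h12 : (g * φ g⁻¹ * (g * φ g⁻¹)) ^ 3 ^ 1 =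
        g * φ g⁻¹ * (g * φ g⁻¹) * (g * φ g⁻¹ * (g * φ g⁻¹) * (g * φ g⁻¹ * (g * φ g⁻¹))) := by
        rw [pow_one, pow_succ', pow_two]
      rw [h12]
      exact h11)
    apply h4
    apply toM_inj
    rw [toM_one]
    exact h7.eq_one_of_centralises h10

end Cfsg.Agent.H486.Hg
end

-- part: H486/HgOddB
section
/-!
# Homogeneous finite groups: the Sylow subgroups for odd primes, II (helper486)

The case where `P` does not centralise `E` is impossible.
-/

set_option autoImplicit false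
set_option linter.unusedSectionVars false

namespace Cfsg.Agent.H486.Hg

open Subgroup Cfsg.Agent.H486.Sn Cfsg.Agent.Schreier.Basic Matrix

universe u

variable {G : Type u} [Group G] [Finite G] {p : ℕ} [hp : Fact p.Prime]

/-- a `p`-group acting on a non-trivial `p`-group has a non-trivial fixed point -/
theorem exists_common_fixed {A P : Subgroup G} (hA : IsPGroup p A) (hne : A ≠ ⊥) (hP : IsPGroup p P)
    (hPA : ∀ a ∈ P, ∀ x ∈ A, a * x * a⁻¹ ∈ A) : ∃ z ∈ A, z ≠ 1 ∧ ∀ a ∈ P, a * z * a⁻¹ = z := by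
  let _ : MulAction P A :=
    { smul := fun a x => ⟨a * x * (a : G)⁻¹, hPA a a.2 x x.2⟩
      one_smul := fun x => Subtype.ext (by change (1 : G) * x * (1 : G)⁻¹ = x; group)
      mul_smul := fun a b x => Subtype.ext (by
        change ((a : G) * b) * x * ((a : G) * b)⁻¹ = a * (b * x * (b : G)⁻¹) * (a : G)⁻¹
        group) }
  have hsm : ∀ (a : P) (x : A), ((a • x : A) : G) = a * x * (a : G)⁻¹ := fun a x => rfl
  have h1 : p ∣ Nat.card A := by
    obtain ⟨n, hn⟩ := IsPGroup.iff_card.1 hA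
    have hn0 : n ≠ 0 := by
      rintro rfl
      rw [pow_zero, Subgroup.card_eq_one] at hn
      exact hne hn
    rw [hn]
    exact dvd_pow_self p hn0
  obtain ⟨z, hz, hz1⟩ := hP.exists_fixed_point_of_prime_dvd_card_of_fixed_point A h1 (a := 1) (by
    intro a
    apply Subtype.ext
    rw [hsm]
    simp only [_root_.OneMemClass.coe_one, _root_.mul_one, _root_.mul_inv_cancel])
  refine ⟨z, z.2, fun h => hz1 (Subtype.ext h.symm), fun a ha => ?_⟩
  exact congrArg Subtype.val (hz ⟨a, ha⟩)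

namespace St

variable {E P : Subgroup G}

/-- automorphisms of `E` are induced by automorphisms of `G` leaving `Q = C_P(E)` invariant -/
theorem exists_aut_Q (h : St p E P) (hH : Homog G) (f : MulAut E) :
    ∃ φ : MulAut G, (∀ x : E, φ x = (f x : G)) ∧
      ∀ x ∈ P, (∀ e ∈ E, x * e = e * x) → φ x ∈ P ∧ ∀ e ∈ E, φ x * e = e * φ x := by
  obtain ⟨φ, hφ⟩ := hH.exists_aut f
  set! C : Subgroup G := centralizer (E : Set G) with hC
  have hCmem : ∀ x, x ∈ C ↔ ∀ e ∈ E, x * e = e * x := by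
    intro x
    rw [hC, mem_centralizer_iff]
    exact ⟨fun h1 y hy => (h1 y hy).symm, fun h1 y hy => (h1 y hy).symm⟩
  have hφC : ∀ x ∈ C, φ x ∈ C := by
    intro x hx
    rw [hCmem] at hx ⊢
    intro e he
    have h1 : e = φ (f⁻¹ ⟨e, he⟩ : E) := by rw [hφ, MulAut.apply_inv_self]
    rw [h1, ← map_mul, ← map_mul, hx _ (f⁻¹ ⟨e, he⟩).2]
  have hmapC : C.map φ.toMonoidHom = C := by
    apply Subgroup.eq_of_le_of_card_ge
    · rintro _ ⟨x, hx, rfl⟩
      exact hφC x hx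
    · exact (Subgroup.card_map_of_injective φ.injective).ge
  have hQ : IsSyl p C (P ⊓ C) := by
    have h1 : C ≤ normalizer (E : Set G) := by
      intro x hx
      refine mem_normalizer_fin fun e he => ?_
      rw [(hCmem x).1 hx e he, mul_inv_cancel_right]
      exact he
    refine (h.syl_of_le h.P_le).inf_normal h1 ?_
    intro y hy x hx
    rw [hCmem] at hx ⊢
    intro e he
    have h2 : y⁻¹ * e * y ∈ E := by
      have := mem_normalizer' (inv_mem hy) he
      rwa [inv_inv] at this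
    have h3 : y * x * y⁻¹ * e = y * (x * (y⁻¹ * e * y)) * y⁻¹ := by group
    rw [h3, hx _ h2]
    group
  have h2 := hQ.map φ
  rw [hmapC] at h2
  obtain ⟨y, hy, hy2⟩ := hQ.conj h2
  refine ⟨MulAut.conj y⁻¹ * φ, fun x => ?_, fun x hx hxE => ?_⟩
  · rw [MulAut.mul_apply, MulAut.conj_apply, hφ, inv_inv]
    have h3 := (hCmem _).1 (inv_mem hy) _ (f x).2
    rw [h3, inv_mul_cancel_right]
  · have h3 : φ x ∈ (P ⊓ C).map φ.toMonoidHom := ⟨x, ⟨hx, (hCmem x).2 hxE⟩, rfl⟩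
    rw [hy2, mem_cj] at h3
    rw [MulAut.mul_apply, MulAut.conj_apply, inv_inv]
    exact ⟨h3.1, (hCmem _).1 h3.2⟩

/-- the coordinates in the case of a non-trivial action: `b` is a `w`-invariant element of order `p`, acting as a
transvection. -/
theorem exists_b (h : St p E P) (hp2 : p ≠ 2) (hH : Homog G) {u : G} (hu : u ∈ P) {e₀ : G} (he₀ : e₀ ∈ E)
    (hne : u * e₀ * u⁻¹ ≠ e₀) :
    ∃ b ∈ P, b ^ p = 1 ∧ ∃ c : E ≃* Multiplicative (Fin 2 → ZMod p), ActM c b !![1, 1; 0, 1] := by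
  obtain ⟨w, hw2, hwP, hwE⟩ := h.exists_w' hp2 hH
  obtain ⟨b, hb, hwb, hbu⟩ := exists_fixed hp2 h.hPE h.hP.isPGroup hw2 hwP hwE hu
  have hbp : ∃ k, b ^ p ^ k = 1 := by
    obtain ⟨k, hk⟩ := h.hP.isPGroup ⟨b, hb⟩
    exact ⟨k, congrArg Subtype.val hk⟩
  obtain ⟨z, hz, hz1, e, he, hez, hbz, hbe⟩ := exists_trans h.hE h.hEp h.hEc hbp (h.hPE b hb) he₀
    (by rw [hbu e₀ he₀]; exact hne)
  obtain ⟨c, hc1, hc2⟩ := exists_basis2 (A := E) (p := p) (fun x y => Subtype.ext (h.hE x x.2 y y.2))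
    (fun x => Subtype.ext (by simpa only [_root_.SubmonoidClass.coe_pow, _root_.OneMemClass.coe_one] using h.hEp x x.2)) h.hEc (z := ⟨z, hz⟩) (e := ⟨e, he⟩)
    (fun h1 => hz1 (congrArg Subtype.val h1)) (by
      rintro ⟨i, hi⟩
      exact hez ⟨i, congrArg Subtype.val hi⟩)
  obtain ⟨M, hM⟩ := exists_actM c (h.hPE b hb)
  have hMz : mv c M ⟨z, hz⟩ = ⟨z, hz⟩ := Subtype.ext ((hM _).symm.trans hbz)
  have hMe : mv c M ⟨e, he⟩ = ⟨e, he⟩ * ⟨z, hz⟩ := Subtype.ext ((hM _).symm.trans hbe)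
  have hM1 := congrArg (fun x => Multiplicative.toAdd (c x)) hMz
  have hM2 := congrArg (fun x => Multiplicative.toAdd (c x)) hMe
  simp only [c_mv, map_mul, toAdd_mul, hc1, hc2, toAdd_ofAdd] at hM1 hM2
  have hMM : M = !![1, 1; 0, 1] := by
    have h00 := congrFun hM1 0
    have h10 := congrFun hM1 1
    have h01 := congrFun hM2 0
    have h11 := congrFun hM2 1
    simp only [Matrix.mulVec, dotProduct, Fin.sum_univ_two, _root_.Matrix.mulVec, _root_.dotProduct, _root_.Fin.isValue, _root_.Nat.succ_eq_add_one, _root_.Nat.reduceAdd, _root_.Fin.sum_univ_two, _root_.Matrix.cons_val_zero, _root_.mul_one, _root_.Matrix.cons_val_one, _root_.Matrix.cons_val_fin_one, _root_.MulZeroClass.mul_zero, _root_.add_zero, _root_.zero_add, _root_.Pi.add_apply] at h00 h10 h01 h11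
    rw [Matrix.eta_fin_two M, h00, h10, h01, h11]
  subst hMM
  refine ⟨b, hb, ?_, c, hM⟩
  have hpow : ∀ n : ℕ, ActM c (b ^ n) !![1, (n : ZMod p); 0, 1] := by
    intro n
    induction n with
    | zero =>
      rw [pow_zero, Nat.cast_zero, ← Matrix.one_fin_two]
      exact ActM.one
    | succ n ih =>
      rw [pow_succ]
      have h1 := ih.mul hM
      have h2 : !![1, (n : ZMod p); 0, 1] * !![1, 1; 0, 1] = !![1, ((n + 1 : ℕ) : ZMod p); 0, 1] := by
        rw [Matrix.mul_fin_two]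
        simp [add_comm]
      rwa [h2] at h1
  have h1 := hpow p
  rw [ZMod.natCast_self, ← Matrix.one_fin_two] at h1
  refine fixed_trivial hp2 hwE h.hmax (by rw [map_pow, hwb]) (fun y hy => ?_) ?_
  · have h2 := h1.centralises y hy
    have h3 : b ^ p * y * (b ^ p)⁻¹ * b ^ p = y * b ^ p := by rw [h2]
    rwa [inv_mul_cancel_right] at h3
  · obtain ⟨k, hk⟩ := hbp
    exact ⟨k, by rw [← pow_mul, mul_comm, pow_mul, hk, one_pow]⟩

end St

end Cfsg.Agent.H486.Hg
end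

-- part: H486/HgOddC
section
/-!
# Homogeneous finite groups: the Sylow subgroups for odd primes, III (helper486)

`C_P(E) = E` if `P` does not centralise `E`.
-/

set_option autoImplicit false
set_option linter.unusedSectionVars false

namespace Cfsg.Agent.H486.Hg

open Subgroup Cfsg.Agent.H486.Sn Cfsg.Agent.Schreier.Basic Matrix

universe u

variable {G : Type u} [Group G] [Finite G] {p : ℕ} [hp : Fact p.Prime]

namespace St

variable {E P : Subgroup G}

/-- some homomorphism `E → E` mapping the fixed vector `z` of `b` to `e` -/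
theorem Q_eq (h : St p E P) (hp2 : p ≠ 2) (hH : Homog G) {b : G} (hb : b ∈ P)
    {c : E ≃* Multiplicative (Fin 2 → ZMod p)} (hbM : ActM c b !![1, 1; 0, 1]) :
    ∀ x ∈ P, (∀ e ∈ E, x * e = e * x) → x ∈ E := by
  by_contra hcon
  push Not at hcon
  obtain ⟨x₀, hx₀P, hx₀E, hx₀⟩ := hcon
  set! Q : Subgroup G := P ⊓ centralizer (E : Set G) with hQ
  have hQmem : ∀ x, x ∈ Q ↔ x ∈ P ∧ ∀ y ∈ E, x * y = y * x := by
    intro x
    rw [hQ, mem_inf, mem_centralizer_iff]
    exact and_congr_right fun _ => ⟨fun h1 y hy => (h1 y hy).symm, fun h1 y hy => (h1 y hy).symm⟩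
  have hQP : IsPGroup p Q := h.hP.isPGroup.to_le inf_le_left
  have hQc : ∀ x ∈ Q, ∀ y ∈ Q, x * y = y * x := by
    intro x hx y hy
    rw [hQmem] at hx hy
    exact h.comm hp2 hH hx.1 hy.1 hx.2 hy.2
  have hEQ : E ≤ Q := fun x hx => (hQmem x).2 ⟨h.hEP hx, fun y hy => h.hE x hx y hy⟩
  -- the exponent
  have hex : ∃ n, ∀ x ∈ Q, x ^ p ^ n = 1 := by
    obtain ⟨n, hn⟩ := IsPGroup.iff_card.1 hQP
    refine ⟨n, fun x hx => ?_⟩
    have h1 : (⟨x, hx⟩ : Q) ^ Nat.card Q = 1 := pow_card_eq_one'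
    rw [hn] at h1
    exact congrArg Subtype.val h1
  classical
  obtain ⟨m, hm⟩ : ∃ m, Nat.find hex = m + 1 := by
    refine Nat.exists_eq_succ_of_ne_zero fun h0 => ?_
    have h1 := Nat.find_spec hex
    rw [h0] at h1
    have h2 := h1 x₀ ((hQmem _).2 ⟨hx₀P, hx₀E⟩)
    rw [pow_zero, pow_one] at h2
    rw [h2] at hx₀
    exact hx₀ E.one_mem
  have hexp : ∀ x ∈ Q, x ^ p ^ (m + 1) = 1 := by
    have := Nat.find_spec hex
    rwa [hm] at this
  have hm0 : m ≠ 0 := by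
    rintro rfl
    have h1 := hexp x₀ ((hQmem _).2 ⟨hx₀P, hx₀E⟩)
    rw [zero_add, pow_one] at h1
    exact hx₀ (h.hmax x₀ hx₀E h1)
  obtain ⟨x₁, hx₁, hx₁m⟩ : ∃ x ∈ Q, x ^ p ^ m ≠ 1 := by
    have h1 := Nat.find_min hex (m := m) (by omega)
    push Not at h1
    exact h1
  have hpwE : ∀ x ∈ Q, x ^ p ^ m ∈ E := by
    intro x hx
    refine h.hmax _ (fun y hy => ?_) ?_
    · exact (Commute.pow_left (show Commute x y from ((hQmem x).1 hx).2 y hy) _)
    · rw [← pow_mul, ← pow_succ]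
      exact hexp x hx
  have hpw1 : ∀ y ∈ E, y ^ p ^ m = 1 := by
    intro y hy
    obtain ⟨m', rfl⟩ := Nat.exists_eq_succ_of_ne_zero hm0
    rw [pow_succ', pow_mul, h.hEp y hy, one_pow]
  -- the elements `z` and `e`
  set! z : E := c.symm (Multiplicative.ofAdd ![1, 0]) with hz
  set! e : E := c.symm (Multiplicative.ofAdd ![0, 1]) with he
  have hcz : Multiplicative.toAdd (c z) = ![1, 0] := by rw [hz, MulEquiv.apply_symm_apply]; rfl
  have hce : Multiplicative.toAdd (c e) = ![0, 1] := by rw [he, MulEquiv.apply_symm_apply]; rfl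
  have hz1 : (z : G) ≠ 1 := by
    intro h1
    have h2 : z = 1 := Subtype.ext h1
    rw [h2, map_one] at hcz
    have := congrFun hcz 0
    simp at this
  have hbz : b * z * b⁻¹ = z := by
    rw [hbM]
    congr 1
    apply c.injective
    apply Multiplicative.toAdd.injective
    rw [c_mv, hcz]
    ext i
    (revert i; simp only [_root_.Fin.forall_fin_succ, _root_.Nat.succ_eq_add_one, Nat.reduceAdd, _root_.Matrix.mulVec_cons, _root_.one_smul, _root_.zero_smul, _root_.Matrix.mulVec_empty, _root_.add_zero, _root_.Pi.add_apply, _root_.Function.comp_apply, _root_.Pi.zero_apply, Fin.isValue, _root_.Matrix.cons_val_zero, _root_.Matrix.head_cons, _root_.Matrix.cons_val_succ, _root_.Matrix.cons_val_fin_one, _root_.implies_true, _root_.and_self])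
  have hbe : b * e * b⁻¹ = e * z := by
    rw [hbM, ← Subgroup.coe_mul]
    congr 1
    apply c.injective
    apply Multiplicative.toAdd.injective
    rw [c_mv, map_mul, toAdd_mul, hcz, hce]
    ext i
    (revert i; simp only [_root_.Fin.forall_fin_succ, _root_.Nat.succ_eq_add_one, Nat.reduceAdd, _root_.Matrix.mulVec_cons, _root_.zero_smul, _root_.one_smul, _root_.Matrix.mulVec_empty, _root_.add_zero, _root_.Pi.add_apply, _root_.Pi.zero_apply, _root_.Function.comp_apply, _root_.zero_add, Fin.isValue, _root_.Matrix.cons_val_zero, _root_.Matrix.tail_cons, _root_.Matrix.head_cons, _root_.Matrix.cons_val_succ, _root_.Matrix.cons_val_fin_one, _root_.implies_true, _root_.and_self])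
  -- an element of `Q` with power `z`
  obtain ⟨x, hx, hxz⟩ : ∃ x ∈ Q, x ^ p ^ m = z := by
    set! y₁ : E := ⟨x₁ ^ p ^ m, hpwE x₁ hx₁⟩ with hy₁
    have hy₁1 : y₁ ≠ 1 := fun h1 => hx₁m (congrArg Subtype.val h1)
    obtain ⟨e', he'⟩ : ∃ e' : E, e' ∉ zpowers y₁ := by
      by_contra hcon
      push Not at hcon
      have h1 : zpowers y₁ = ⊤ := eq_top_iff.2 fun y _ => hcon y
      have h2 : Nat.card (zpowers y₁) = p ^ 2 := by rw [h1, Subgroup.card_top, h.hEc]
      rw [Nat.card_zpowers, orderOf_eq_prime (Subtype.ext (by simpa only [_root_.SubmonoidClass.coe_pow, _root_.OneMemClass.coe_one] using h.hEp y₁ y₁.2)) hy₁1] at h2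
      have h3 := hp.out.one_lt
      nlinarith only [h2, h3]
    obtain ⟨c₁, hc₁, -⟩ := exists_basis2 (A := E) (p := p) (fun x y => Subtype.ext (h.hE x x.2 y y.2))
      (fun x => Subtype.ext (by simpa only [_root_.SubmonoidClass.coe_pow, _root_.OneMemClass.coe_one] using h.hEp x x.2)) h.hEc hy₁1 he'
    obtain ⟨φ, hφ, hφQ⟩ := h.exists_aut_Q hH (c₁.trans c.symm)
    refine ⟨φ x₁, (hQmem _).2 (hφQ x₁ ((hQmem _).1 hx₁).1 ((hQmem _).1 hx₁).2), ?_⟩
    rw [← map_pow]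
    have h1 := hφ y₁
    have h2 : (c₁.trans c.symm) y₁ = z := by
      rw [MulEquiv.trans_apply, hc₁]
    rw [h2] at h1
    exact h1
  -- the automorphism `κ`
  let pw : Q → E := fun x => ⟨(x : G) ^ p ^ m, hpwE x x.2⟩
  have hpw : ∀ x y : Q, pw (x * y) = pw x * pw y := fun x y => by
    apply Subtype.ext
    change ((x : G) * y) ^ p ^ m = (x : G) ^ p ^ m * (y : G) ^ p ^ m
    exact (show Commute (x : G) y from hQc x x.2 y y.2).mul_pow _
  have hpwe : ∀ y : Q, (y : G) ∈ E → pw y = 1 := fun y hy => Subtype.ext (hpw1 y hy)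
  let N : Matrix (Fin 2) (Fin 2) (ZMod p) := !![0, 0; 1, 0]
  have hmv1 : mv c N 1 = 1 := by
    have := mv_mul c N 1 1
    rw [mul_one] at this
    exact (mul_eq_left.1 this.symm)
  let κ₀ : Q →* Q :=
    { toFun := fun x => ⟨x * mv c N (pw x), Q.mul_mem x.2 (hEQ (mv c N (pw x)).2)⟩
      map_one' := by
        apply Subtype.ext
        change (1 : G) * mv c N (pw 1) = 1
        rw [hpwe 1 E.one_mem, hmv1]
        simp
      map_mul' := fun x y => by
        apply Subtype.ext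
        change (x : G) * y * mv c N (pw (x * y)) = x * mv c N (pw x) * (y * mv c N (pw y))
        rw [hpw, mv_mul, Subgroup.coe_mul]
        have h1 := hQc _ y.2 _ (hEQ (mv c N (pw x)).2)
        rw [mul_assoc, ← mul_assoc (y : G), h1]
        group }
  have hκ₀ : Function.Injective κ₀ := by
    rw [injective_iff_map_eq_one]
    intro x hx
    have h1 : (x : G) * mv c N (pw x) = 1 := congrArg Subtype.val hx
    have h2 : (x : G) ∈ E := by
      rw [eq_inv_of_mul_eq_one_left h1]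
      exact E.inv_mem (mv c N (pw x)).2
    rw [hpwe x h2, hmv1] at h1
    exact Subtype.ext (by simpa only [_root_.OneMemClass.coe_one, _root_.OneMemClass.coe_eq_one, _root_.mul_one] using h1)
  obtain ⟨φ, hφ'⟩ := hH.exists_aut (E := Q) (MulEquiv.ofBijective κ₀ (Finite.injective_iff_bijective.1 hκ₀))
  have hφ : ∀ x : Q, φ (x : G) = x * mv c N (pw x) := fun x => hφ' x
  have hφE : ∀ y ∈ E, φ y = y := by
    intro y hy
    have h1 := hφ ⟨y, hEQ hy⟩
    rw [hpwe _ hy, hmv1] at h1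
    simpa using h1
  have hbE : ∀ y ∈ E, b⁻¹ * y * b ∈ E := by
    intro y hy
    have := h.hPE b⁻¹ (P.inv_mem hb) y hy
    rwa [inv_inv] at this
  have hbQ : ∀ y ∈ Q, b * y * b⁻¹ ∈ Q := by
    intro y hy
    rw [hQmem] at hy ⊢
    refine ⟨P.mul_mem (P.mul_mem hb hy.1) (P.inv_mem hb), fun a ha => ?_⟩
    have h1 := hy.2 _ (hbE a ha)
    have h2 : b * y * b⁻¹ * a = b * (y * (b⁻¹ * a * b)) * b⁻¹ := by group
    rw [h2, h1]
    group
  have hbQ' : ∀ y ∈ Q, b⁻¹ * y * b ∈ Q := by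
    intro y hy
    have h1 := mem_normalizer_fin hbQ
    have h2 := mem_normalizer' (inv_mem h1) hy
    rwa [inv_inv] at h2
  set! n : G := b * φ b⁻¹ with hn
  have hnE : ∀ y ∈ E, n * y * n⁻¹ = y := by
    intro y hy
    have h1 : n * y * n⁻¹ = b * φ (b⁻¹ * y * b) * b⁻¹ := by
      rw [hn, map_mul, map_mul, hφE y hy, map_inv]
      group
    rw [h1, hφE _ (hbE y hy)]
    group
  -- the formula for the action on `Q`
  have hform : ∀ x : Q, n * x * n⁻¹ =
      b * φ (b⁻¹ * (x * (mv c N (pw x) : G)⁻¹) * b) * b⁻¹ := by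
    intro x
    have h1 : φ (x * (mv c N (pw x) : G)⁻¹) = x := by
      rw [map_mul, map_inv, hφE _ (mv c N (pw x)).2, hφ, mul_inv_cancel_right]
    rw [map_mul, map_mul, h1, hn, map_inv]
    group
  have hnQ : ∀ x ∈ Q, n * x * n⁻¹ ∈ Q := by
    intro x hx
    rw [hform ⟨x, hx⟩]
    apply hbQ
    have h1 : b⁻¹ * (x * (mv c N (pw ⟨x, hx⟩) : G)⁻¹) * b ∈ Q :=
      hbQ' _ (Q.mul_mem hx (Q.inv_mem (hEQ (mv c N (pw ⟨x, hx⟩)).2)))
    have h2 := hφ ⟨_, h1⟩
    change φ (b⁻¹ * (x * (mv c N (pw ⟨x, hx⟩) : G)⁻¹) * b) = _ at h2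
    rw [h2]
    exact Q.mul_mem h1 (hEQ (mv c N _).2)
  have hNz : mv c N z = e := by
    apply c.injective
    apply Multiplicative.toAdd.injective
    rw [c_mv, hcz, hce]
    ext i
    (revert i; simp only [N, _root_.Fin.forall_fin_succ, _root_.Nat.succ_eq_add_one, Nat.reduceAdd, _root_.Matrix.mulVec_cons, _root_.one_smul, _root_.zero_smul, _root_.Matrix.mulVec_empty, _root_.add_zero, _root_.Pi.add_apply, _root_.Function.comp_apply, _root_.Pi.zero_apply, Fin.isValue, _root_.Matrix.cons_val_zero, _root_.Matrix.head_cons, _root_.Matrix.cons_val_succ, _root_.Matrix.cons_val_fin_one, _root_.implies_true, _root_.and_self])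
  have hnx : n * x * n⁻¹ = x * z := by
    have hpx : pw ⟨x, hx⟩ = z := Subtype.ext hxz
    have h0 := hform ⟨x, hx⟩
    rw [hpx, hNz] at h0
    change n * x * n⁻¹ = b * φ (b⁻¹ * (x * (e : G)⁻¹) * b) * b⁻¹ at h0
    have h1 : b⁻¹ * (x * (e : G)⁻¹) * b ∈ Q := hbQ' _ (Q.mul_mem hx (Q.inv_mem (hEQ e.2)))
    have h2 := hφ ⟨_, h1⟩
    have h3 : pw ⟨_, h1⟩ = z := by
      apply Subtype.ext
      change (b⁻¹ * (x * (e : G)⁻¹) * b) ^ p ^ m = z
      have h4 : b⁻¹ * (x * (e : G)⁻¹) * b = b⁻¹ * (x * (e : G)⁻¹) * b⁻¹⁻¹ := by rw [inv_inv]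
      have h5 : Commute x (e : G)⁻¹ := hQc x hx _ (hEQ (E.inv_mem e.2))
      rw [h4, conj_pow, h5.mul_pow, hxz, hpw1 _ (E.inv_mem e.2), inv_inv, mul_one]
      have h6 : b⁻¹ * (b * z * b⁻¹) * b = z := by group
      rwa [hbz] at h6
    rw [h3, hNz] at h2
    change φ (b⁻¹ * (x * (e : G)⁻¹) * b) = b⁻¹ * (x * (e : G)⁻¹) * b * e at h2
    rw [h0, h2]
    have h4 : b * (b⁻¹ * (x * (e : G)⁻¹) * b * e) * b⁻¹ = x * (e : G)⁻¹ * (b * e * b⁻¹) := by group
    rw [h4, hbe]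
    group
  have hnpow : ∀ i : ℕ, n ^ i * x * (n ^ i)⁻¹ = x * (z : G) ^ i := by
    intro i
    induction i with
    | zero => simp
    | succ i ih =>
      have h1 : n ^ (i + 1) * x * (n ^ (i + 1))⁻¹ = n * (n ^ i * x * (n ^ i)⁻¹) * n⁻¹ := by
        rw [pow_succ']; group
      have h2 : n * (x * (z : G) ^ i) * n⁻¹ = (n * x * n⁻¹) * (n * (z : G) ^ i * n⁻¹) := by group
      rw [h1, ih, h2, hnx, hnE _ (E.pow_mem z.2 i), pow_succ', mul_assoc]
  obtain ⟨t, ⟨j, rfl⟩, k, hk⟩ := exists_p_part (p := p) n 1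
  -- `Q` is a Sylow subgroup of the centraliser
  have hQsyl : IsSyl p (centralizer (E : Set G)) Q := by
    refine (h.syl_of_le h.P_le).inf_normal (Subgroup.centralizer_le_normalizer (E : Set G)) ?_
    intro y hy x hx
    rw [mem_centralizer_iff] at hx ⊢
    intro a ha
    have h2 : y⁻¹ * a * y ∈ E := by
      have := mem_normalizer' (inv_mem hy) ha
      rwa [inv_inv] at this
    have h3 : y * x * y⁻¹ * a = y * (x * (y⁻¹ * a * y)) * y⁻¹ := by group
    rw [h3, ← hx _ h2]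
    group
  have hnC : n ∈ centralizer (E : Set G) := by
    rw [mem_centralizer_iff]
    intro y hy
    have h1 := hnE y hy
    have h2 : n * y * n⁻¹ * n = y * n := by rw [h1]
    rw [inv_mul_cancel_right] at h2
    exact h2.symm
  have hu : n ^ (1 + p ^ 1 * j) ∈ Q :=
    hQsyl.mem_of_normalizes (pow_mem hnC _) ⟨k, hk⟩ (pow_mem (mem_normalizer_fin hnQ) _)
  have h1 := hnpow (1 + p ^ 1 * j)
  rw [hQc _ hu _ hx, mul_inv_cancel_right, pow_add, pow_one, pow_one, pow_mul, h.hEp _ z.2, one_pow, mul_one] at h1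
  exact hz1 (left_eq_mul.1 h1)

end St

end Cfsg.Agent.H486.Hg
end

-- part: H486/HgOddD
section
/-!
# Homogeneous finite groups: the Sylow subgroups for odd primes, IV (helper486)

`P` centralises `E`.
-/

set_option autoImplicit false
set_option linter.unusedSectionVars false

namespace Cfsg.Agent.H486.Hg

open Subgroup Cfsg.Agent.H486.Sn Cfsg.Agent.Schreier.Basic Matrix

universe u

variable {G : Type u} [Group G] [Finite G] {p : ℕ} [hp : Fact p.Prime]

namespace St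

variable {E P : Subgroup G}

theorem upper_pow (d i : ZMod p) (n : ℕ) : ∃ j : ZMod p, !![1, i; 0, d] ^ n = !![1, j; 0, d ^ n] := by
  induction n with
  | zero => exact ⟨0, by rw [pow_zero, pow_zero, Matrix.one_fin_two]⟩
  | succ n ih =>
    obtain ⟨j, hj⟩ := ih
    refine ⟨i + j * d, ?_⟩
    rw [pow_succ, hj, Matrix.mul_fin_two, pow_succ]
    simp

theorem actM_pow {c : E ≃* Multiplicative (Fin 2 → ZMod p)} {g : G} {M : Matrix (Fin 2) (Fin 2) (ZMod p)}
    (h : ActM c g M) (n : ℕ) : ActM c (g ^ n) (M ^ n) := by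
  induction n with
  | zero => rw [pow_zero, pow_zero]; exact ActM.one
  | succ n ih => rw [pow_succ, pow_succ]; exact ih.mul h

theorem ut_pow (n : ℕ) : (!![1, 1; 0, 1] : Matrix (Fin 2) (Fin 2) (ZMod p)) ^ n = !![1, (n : ZMod p); 0, 1] := by
  induction n with
  | zero => rw [pow_zero, Nat.cast_zero, Matrix.one_fin_two]
  | succ n ih =>
    rw [pow_succ, ih, Matrix.mul_fin_two]
    simp [add_comm]

/-- every element of `P` acts as an upper unitriangular matrix -/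
theorem exists_ut (h : St p E P) {b : G} (hb : b ∈ P)
    {c : E ≃* Multiplicative (Fin 2 → ZMod p)} (hbM : ActM c b !![1, 1; 0, 1]) {a : G} (ha : a ∈ P) :
    ∃ i : ZMod p, ActM c a !![1, i; 0, 1] := by
  obtain ⟨z₁, hz₁, hz₁1, hfix⟩ := exists_common_fixed h.isPGroupE (by
    intro h1
    have h2 := h.hEc
    rw [h1, Subgroup.card_bot] at h2
    exact absurd h2.symm (Nat.one_lt_pow two_ne_zero hp.out.one_lt).ne') h.hP.isPGroup h.hPE
  set! v := Multiplicative.toAdd (c ⟨z₁, hz₁⟩) with hv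
  have hM : ∀ a ∈ P, ∀ M, ActM c a M → M.mulVec v = v := by
    intro a ha M hM
    have h1 : mv c M ⟨z₁, hz₁⟩ = ⟨z₁, hz₁⟩ := Subtype.ext ((hM ⟨z₁, hz₁⟩).symm.trans (hfix a ha))
    have h2 := congrArg (fun x => Multiplicative.toAdd (c x)) h1
    simpa only [c_mv] using h2
  have h1 := congrFun (hM b hb _ hbM) 0
  have hv1 : v 1 = 0 := by
    simp [Matrix.mulVec, dotProduct, Fin.sum_univ_two] at h1
    exact h1
  have hv0 : v 0 ≠ 0 := by
    intro h0
    have h2 : v = 0 := by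
      ext i
      fin_cases i
      · exact h0
      · exact hv1
    have h3 : (⟨z₁, hz₁⟩ : E) = 1 := by
      apply c.injective
      apply Multiplicative.toAdd.injective
      rw [map_one]
      exact h2
    exact hz₁1 (congrArg Subtype.val h3)
  obtain ⟨M, hMa⟩ := exists_actM c (h.hPE a ha)
  have h2 := hM a ha M hMa
  have h00 := congrFun h2 0
  have h10 := congrFun h2 1
  simp only [Matrix.mulVec, dotProduct, Fin.sum_univ_two, hv1, _root_.Matrix.mulVec, _root_.dotProduct, _root_.Fin.isValue, _root_.Fin.sum_univ_two, _root_.MulZeroClass.mul_zero, _root_.add_zero, _root_.mul_eq_zero] at h00 h10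
  have hM00 : M 0 0 = 1 := mul_right_cancel₀ hv0 (by rw [h00, one_mul])
  have hM10 : M 1 0 = 0 := by
    rcases h10 with h10 | h10
    · exact h10
    · exact absurd h10 hv0
  have hMeq : M = !![1, M 0 1; 0, M 1 1] := by
    rw [← hM00, ← hM10]
    exact Matrix.eta_fin_two M
  obtain ⟨k, hk⟩ := h.hP.isPGroup ⟨a, ha⟩
  have hk' : a ^ p ^ k = 1 := congrArg Subtype.val hk
  have h3 := actM_pow hMa (p ^ k)
  rw [hk', hMeq] at h3
  obtain ⟨j, hj⟩ := upper_pow (M 1 1) (M 0 1) (p ^ k)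
  rw [hj, ZMod.pow_card_pow] at h3
  have h4 := congrFun (congrFun (h3.unique ActM.one) 1) 1
  simp at h4
  rw [h4] at hMeq
  exact ⟨M 0 1, hMeq ▸ hMa⟩

/-- `P = E ⟨b⟩` -/
theorem exists_mul (h : St p E P) (hQ : ∀ x ∈ P, (∀ e ∈ E, x * e = e * x) → x ∈ E) {b : G} (hb : b ∈ P)
    {c : E ≃* Multiplicative (Fin 2 → ZMod p)} (hbM : ActM c b !![1, 1; 0, 1]) {a : G} (ha : a ∈ P) :
    ∃ x ∈ E, ∃ i : ℕ, a = x * b ^ i := by
  obtain ⟨i, hi⟩ := h.exists_ut hb hbM ha
  have h1 := actM_pow hbM i.val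
  rw [ut_pow, ZMod.natCast_val, ZMod.cast_id', id] at h1
  have h2 : ActM c (a * (b ^ i.val)⁻¹) 1 := by
    have h3 := hi.mul (h1.inv (M' := !![1, -i; 0, 1]) (by
      rw [Matrix.mul_fin_two, Matrix.one_fin_two]; simp))
    rw [Matrix.mul_fin_two] at h3
    simp only [mul_one, mul_neg, one_mul, mul_zero, add_zero, neg_zero, zero_add, neg_add_cancel, zero_mul] at h3
    rwa [← Matrix.one_fin_two] at h3
  refine ⟨a * (b ^ i.val)⁻¹, hQ _ (P.mul_mem ha (P.inv_mem (P.pow_mem hb _))) (fun e he => ?_), i.val, by group⟩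
  have h3 := h2.centralises e he
  have h4 : a * (b ^ i.val)⁻¹ * e * (a * (b ^ i.val)⁻¹)⁻¹ * (a * (b ^ i.val)⁻¹) = e * (a * (b ^ i.val)⁻¹) := by
    rw [h3]
  rwa [inv_mul_cancel_right] at h4

theorem m1 : (!![0, 1; 1, 0] * !![0, 1; 1, 0] : Matrix (Fin 2) (Fin 2) (ZMod p)) = 1 := by
  ext i j
  (revert i j; simp only [Matrix.mul_apply, Fin.sum_univ_two, _root_.Fin.forall_fin_succ, _root_.Matrix.of_apply, _root_.Matrix.cons_val', _root_.Matrix.cons_val_fin_one, Fin.isValue, _root_.Matrix.cons_val_zero, _root_.Matrix.cons_val_one, _root_.MulZeroClass.mul_zero, _root_.mul_one, _root_.zero_add, _root_.Matrix.cons_val_succ, _root_.add_zero, _root_.IsEmpty.forall_iff, _root_.and_true, _root_.Matrix.one_apply_eq, Nat.reduceAdd, _root_.Fin.succ_zero_eq_one, _root_.ne_eq, _root_.zero_ne_one, _root_.not_false_eq_true, _root_.Matrix.one_apply_ne, _root_.and_self, _root_.Fin.succ_ne_zero, _root_.true_and])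

theorem m2 : (!![0, 1; 1, 0] * !![1, 1; 0, 1] * !![0, 1; 1, 0] * !![1, 0; -1, 1] :
    Matrix (Fin 2) (Fin 2) (ZMod p)) = 1 := by
  ext i j
  (revert i j; simp only [Matrix.mul_apply, Fin.sum_univ_two, _root_.Fin.forall_fin_succ, _root_.Matrix.cons_mul, _root_.Nat.succ_eq_add_one, Nat.reduceAdd, _root_.Matrix.vecMul_cons, _root_.Matrix.head_cons, _root_.zero_smul, _root_.Matrix.tail_cons, _root_.one_smul, _root_.Matrix.empty_vecMul, _root_.add_zero, _root_.zero_add, _root_.Matrix.empty_mul, _root_.Equiv.symm_apply_apply, _root_.Matrix.add_cons, _root_.Matrix.empty_add_empty, _root_.Matrix.of_apply, _root_.Matrix.cons_val', _root_.Matrix.cons_val_fin_one, Fin.isValue, _root_.Matrix.cons_val_zero, _root_.Matrix.cons_val_one, _root_.mul_one, _root_.mul_neg, _root_.Matrix.cons_val_succ, _root_.MulZeroClass.mul_zero, _root_.IsEmpty.forall_iff, _root_.and_true, _root_.neg_zero, _root_.Matrix.one_apply_eq, _root_.Fin.succ_zero_eq_one,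 _root_.ne_eq, _root_.zero_ne_one, _root_.not_false_eq_true, _root_.Matrix.one_apply_ne, _root_.and_self, _root_.add_neg_cancel, _root_.Fin.succ_ne_zero, _root_.true_and])

theorem m3 : (!![1, 1; 0, 1] * !![1, 0; -1, 1] * !![1, 1; 0, 1] *
    (!![1, 1; 0, 1] * !![1, 0; -1, 1] * !![1, 1; 0, 1]) : Matrix (Fin 2) (Fin 2) (ZMod p)) = -1 := by
  ext i j
  (revert i j; simp only [Matrix.mul_apply, Fin.sum_univ_two, _root_.Fin.forall_fin_succ, _root_.Matrix.cons_mul, _root_.Nat.succ_eq_add_one, Nat.reduceAdd, _root_.Matrix.vecMul_cons, _root_.Matrix.head_cons, _root_.one_smul, _root_.Matrix.tail_cons, _root_.Matrix.empty_vecMul, _root_.add_zero, _root_.Matrix.add_cons, _root_.add_neg_cancel, _root_.zero_add, _root_.Matrix.empty_add_empty, _root_.zero_smul, _root_.Matrix.empty_mul, _root_.Equiv.symm_apply_apply, _root_.neg_smul, _root_.Matrix.neg_cons, _root_.Matrix.neg_empty, _root_.neg_add_cancel, _root_.Matrix.of_apply, _root_.Matrix.cons_val',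 _root_.Matrix.cons_val_fin_one, Fin.isValue, _root_.Matrix.cons_val_zero, _root_.Matrix.cons_val_one, _root_.Matrix.neg_apply, _root_.MulZeroClass.mul_zero, _root_.mul_neg, _root_.mul_one, _root_.neg_inj, _root_.Matrix.cons_val_succ, _root_.IsEmpty.forall_iff, _root_.and_true, _root_.Matrix.one_apply_eq, _root_.Fin.succ_zero_eq_one, _root_.ne_eq, _root_.zero_ne_one, _root_.not_false_eq_true, _root_.Matrix.one_apply_ne, _root_.neg_zero, _root_.and_self, _root_.Fin.succ_ne_zero, _root_.true_and])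

/-- **A Sylow `p`-subgroup centralises `E`.** -/
theorem centralises_E (h : St p E P) (hp2 : p ≠ 2) (hH : Homog G) : ∀ a ∈ P, ∀ x ∈ E, a * x = x * a := by
  by_contra hcon
  push Not at hcon
  obtain ⟨u₀, hu₀, e₀, he₀, hne⟩ := hcon
  obtain ⟨b, hb, hbp, c, hbM⟩ := h.exists_b hp2 hH hu₀ he₀ (by
    intro h1
    apply hne
    have h2 : u₀ * e₀ * u₀⁻¹ * u₀ = e₀ * u₀ := by rw [h1]
    rwa [inv_mul_cancel_right] at h2)
  have hQ := h.Q_eq hp2 hH hb hbM
  have h2ne : (2 : ZMod p) ≠ 0 := by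
    intro h0
    have h1 : ((2 : ℕ) : ZMod p) = 0 := by exact_mod_cast h0
    rw [ZMod.natCast_eq_zero_iff] at h1
    exact hp2 ((Nat.prime_dvd_prime_iff_eq hp.out Nat.prime_two).1 h1)
  -- an element inverting `E`
  obtain ⟨φs, hφs⟩ := exists_autM hH c (A := !![0, 1; 1, 0]) (B := !![0, 1; 1, 0]) m1 m1
  have hb' := (hbM.aut m1 hφs).inv (M' := !![1, 0; -1, 1]) m2
  have hg₁ := (hbM.mul hb').mul hbM
  have hg₀ := hg₁.mul hg₁
  have hg₀' : ActM c (b * (φs b)⁻¹ * b * (b * (φs b)⁻¹ * b)) (-1) := by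
    rwa [m3] at hg₀
  set g₀ : G := b * (φs b)⁻¹ * b * (b * (φs b)⁻¹ * b) with hg₀def
  clear_value g₀
  have hg₀E : ∀ x ∈ E, g₀ * x * g₀⁻¹ = x⁻¹ := by
    intro x hx
    have h1 := hg₀' ⟨x, hx⟩
    rw [mv_neg, mv_one] at h1
    exact h1
  have hg₀E' : ∀ x ∈ E, g₀⁻¹ * x * g₀ = x⁻¹ := by
    intro x hx
    have h1 := hg₀E _ (E.inv_mem hx)
    rw [inv_inv] at h1
    rw [← h1]
    have h2 : g₀⁻¹ * (g₀ * x⁻¹ * g₀⁻¹) * g₀ = x⁻¹ := by group
    rw [h2, h1]
  have hY : cj g₀ P ≤ YP E P h.hPE := by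
    intro a₁ ha₁
    rw [mem_cj] at ha₁
    refine ⟨_, ha₁, fun x hx => ?_⟩
    have h1 : a₁ * x * a₁⁻¹ = g₀ * ((g₀⁻¹ * a₁ * g₀) * (g₀⁻¹ * x * g₀) * (g₀⁻¹ * a₁ * g₀)⁻¹) * g₀⁻¹ := by group
    rw [h1, hg₀E' x hx, hg₀E _ (h.hPE _ ha₁ _ (E.inv_mem hx))]
    simp only [_root_.mul_inv_rev, inv_inv, mul_assoc]
  obtain ⟨y, ⟨a, ha, hya⟩, hyP⟩ := (h.syl_of_le (le_YP (h := h.hPE))).exists_conj_le hY (isPGroup_cj h.hP.isPGroup g₀)
  have hyinv : ∀ x ∈ E, y⁻¹ * x * y = a⁻¹ * x * a := by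
    intro x hx
    have h1 : a⁻¹ * x * a ∈ E := by
      have := h.hPE a⁻¹ (P.inv_mem ha) x hx
      rwa [inv_inv] at this
    have h2 := hya _ h1
    have h3 : a * (a⁻¹ * x * a) * a⁻¹ = x := by group
    rw [h3] at h2
    calc y⁻¹ * x * y = y⁻¹ * (y * (a⁻¹ * x * a) * y⁻¹) * y := by rw [h2]
      _ = a⁻¹ * x * a := by group
  set! g : G := a * y⁻¹ * g₀ with hgdef
  have hgE : ∀ x ∈ E, g * x * g⁻¹ = x⁻¹ := by
    intro x hx
    have h1 : g * x * g⁻¹ = a * (y⁻¹ * (g₀ * x * g₀⁻¹) * y) * a⁻¹ := by rw [hgdef]; group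
    rw [h1, hg₀E x hx, hyinv _ (E.inv_mem hx)]
    group
  have hgE' : ∀ x ∈ E, g⁻¹ * x * g = x⁻¹ := by
    intro x hx
    have h1 := hgE _ (E.inv_mem hx)
    rw [inv_inv] at h1
    have h2 : g⁻¹ * (g * x⁻¹ * g⁻¹) * g = x⁻¹ := by group
    rwa [h1] at h2
  have hgP : ∀ x ∈ P, g * x * g⁻¹ ∈ P := by
    intro x hx
    have h1 : g₀ * x * g₀⁻¹ ∈ cj g₀ P := by
      rw [mem_cj]
      have h2 : g₀⁻¹ * (g₀ * x * g₀⁻¹) * g₀ = x := by group
      rwa [h2]
    have h2 := hyP h1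
    rw [mem_cj] at h2
    have h3 := P.mul_mem (P.mul_mem ha h2) (P.inv_mem ha)
    have h4 : a * (y⁻¹ * (g₀ * x * g₀⁻¹) * y) * a⁻¹ = g * x * g⁻¹ := by rw [hgdef]; group
    rwa [h4] at h3
  clear_value g
  -- `g b g⁻¹ = b y₀`
  set! y₀ : G := b⁻¹ * (g * b * g⁻¹) with hy₀
  have hbE : ∀ y ∈ E, b⁻¹ * y * b ∈ E := by
    intro y hy
    have := h.hPE b⁻¹ (P.inv_mem hb) y hy
    rwa [inv_inv] at this
  have hy₀E : y₀ ∈ E := by
    refine hQ _ (P.mul_mem (P.inv_mem hb) (hgP b hb)) (fun x hx => ?_)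
    have h1 : y₀ * x * y₀⁻¹ = b⁻¹ * (g * (b * (g⁻¹ * x * g) * b⁻¹) * g⁻¹) * b := by rw [hy₀]; group
    rw [hgE' x hx, hgE _ (h.hPE b hb _ (E.inv_mem hx))] at h1
    have h2 : b⁻¹ * (b * x⁻¹ * b⁻¹)⁻¹ * b = x := by group
    rw [h2] at h1
    have h3 : y₀ * x * y₀⁻¹ * y₀ = x * y₀ := by rw [h1]
    rwa [inv_mul_cancel_right] at h3
  have hgb : g * b * g⁻¹ = b * y₀ := by rw [hy₀]; group
  have hgb' : g⁻¹ * b * g = b * y₀ := by
    have h1 : g * (b * y₀) * g⁻¹ = (g * b * g⁻¹) * (g * y₀ * g⁻¹) := by group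
    rw [hgb, hgE y₀ hy₀E, mul_inv_cancel_right] at h1
    rw [← h1]
    have h2 : g⁻¹ * (g * (b * y₀) * g⁻¹) * g = b * y₀ := by group
    rw [h2, h1]
  -- the automorphism `σ` of `P`
  have hut : ∀ a : P, ∃ i : ZMod p, ActM c (a : G) !![1, i; 0, 1] := fun a => h.exists_ut hb hbM a.2
  choose ι hι using hut
  have hιmul : ∀ a a' : P, ι (a * a') = ι a + ι a' := by
    intro a a'
    have h1 := (hι a).mul (hι a')
    have h2 := (hι (a * a')).unique h1
    rw [Matrix.mul_fin_two] at h2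
    have h3 := congrFun (congrFun h2 0) 1
    simp at h3
    rw [h3, add_comm]
  have hι1 : ∀ a : P, (a : G) ∈ E → ι a = 0 := by
    intro a ha
    have h1 : ActM c (a : G) 1 := by
      intro x
      rw [mv_one, h.hE _ ha _ x.2, mul_inv_cancel_right]
    have h2 := congrFun (congrFun ((hι a).unique h1) 0) 1
    simpa using h2
  let t : ZMod p → E := fun i => c.symm (Multiplicative.ofAdd ![-(i * (i - 1) / 2), i])
  have hct : ∀ i, Multiplicative.toAdd (c (t i)) = ![-(i * (i - 1) / 2), i] := fun i => by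
    change Multiplicative.toAdd (c (c.symm _)) = _
    rw [MulEquiv.apply_symm_apply]
    rfl
  have ht0 : t 0 = 1 := by
    apply c.injective
    apply Multiplicative.toAdd.injective
    rw [hct, map_one]
    ext i
    (revert i; simp only [_root_.Fin.forall_fin_succ, _root_.Nat.succ_eq_add_one, Nat.reduceAdd, _root_.zero_sub, _root_.mul_neg, _root_.mul_one, _root_.neg_zero, _root_.zero_div, _root_.toAdd_one, _root_.Pi.zero_apply, Fin.isValue, _root_.Matrix.cons_val_zero, _root_.Matrix.cons_val_succ, _root_.Matrix.cons_val_fin_one, _root_.implies_true, _root_.and_self])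
  have hinvM : ∀ a : P, ∀ x : E, (a : G)⁻¹ * x * a = (mv c !![1, -ι a; 0, 1] x : G) := by
    intro a x
    have h1 := (hι a).inv (M' := !![1, -ι a; 0, 1]) (by
      rw [Matrix.mul_fin_two, Matrix.one_fin_two]; simp)
    have h2 := h1 x
    rwa [inv_inv] at h2
  let σ₀ : P →* P :=
    { toFun := fun a => ⟨a * t (ι a), P.mul_mem a.2 (h.hEP (t (ι a)).2)⟩
      map_one' := by
        apply Subtype.ext
        change (1 : G) * t (ι 1) = 1
        rw [hι1 1 E.one_mem, ht0]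
        simp
      map_mul' := fun a a' => by
        apply Subtype.ext
        change (a : G) * a' * t (ι (a * a')) = a * t (ι a) * (a' * t (ι a'))
        have h1 : (a : G) * t (ι a) * (a' * t (ι a')) = a * a' * (((a' : G)⁻¹ * t (ι a) * a') * t (ι a')) := by group
        rw [h1, hinvM, hιmul]
        change (a : G) * a' * t (ι a + ι a') = a * a' * ((mv c !![1, -ι a'; 0, 1] (t (ι a)) * t (ι a') : E) : G)
        refine congrArg (fun s : E => (a : G) * a' * s) ?_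
        apply c.injective
        apply Multiplicative.toAdd.injective
        rw [map_mul, toAdd_mul, c_mv, hct, hct, hct]
        ext i
        fin_cases i
        · simp only [Matrix.mulVec, dotProduct, Fin.sum_univ_two, _root_.Nat.succ_eq_add_one, _root_.Nat.reduceAdd, _root_.Fin.zero_eta, _root_.Fin.isValue, _root_.Matrix.cons_val_zero, _root_.Matrix.mulVec_cons, _root_.neg_smul, _root_.Matrix.mulVec_empty, _root_.add_zero, _root_.Pi.add_apply, _root_.Pi.neg_apply, _root_.Pi.smul_apply, _root_.Function.comp_apply, _root_.Matrix.head_cons, _root_.smul_eq_mul, _root_.mul_one, _root_.Matrix.tail_cons, _root_.mul_neg]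
          field_simp
          ring
        · simp only [Matrix.mulVec, dotProduct, Fin.sum_univ_two, _root_.Nat.succ_eq_add_one, _root_.Nat.reduceAdd, _root_.Fin.mk_one, _root_.Fin.isValue, _root_.Matrix.cons_val_one, _root_.Matrix.cons_val_fin_one, _root_.Matrix.mulVec_cons, _root_.neg_smul, _root_.Matrix.mulVec_empty, _root_.add_zero, _root_.Pi.add_apply, _root_.Pi.neg_apply, _root_.Pi.smul_apply, _root_.Function.comp_apply, _root_.Matrix.head_cons, _root_.smul_eq_mul, _root_.MulZeroClass.mul_zero, _root_.neg_zero, _root_.Matrix.tail_cons, _root_.mul_one, _root_.zero_add] }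
  have hσ₀ : Function.Injective σ₀ := by
    rw [injective_iff_map_eq_one]
    intro x hx
    have h1 : (x : G) * t (ι x) = 1 := congrArg Subtype.val hx
    have h2 : (x : G) ∈ E := by
      rw [eq_inv_of_mul_eq_one_left h1]
      exact E.inv_mem (t (ι x)).2
    rw [hι1 x h2, ht0] at h1
    exact Subtype.ext (by simpa only [_root_.OneMemClass.coe_one, _root_.OneMemClass.coe_eq_one, _root_.mul_one] using h1)
  obtain ⟨φ, hφ'⟩ := hH.exists_aut (E := P) (MulEquiv.ofBijective σ₀ (Finite.injective_iff_bijective.1 hσ₀))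
  have hφ : ∀ a : P, φ (a : G) = a * t (ι a) := fun a => hφ' a
  have hφE : ∀ y ∈ E, φ y = y := by
    intro y hy
    have h1 := hφ ⟨y, h.hEP hy⟩
    rw [hι1 _ hy, ht0] at h1
    simpa using h1
  set! e : E := c.symm (Multiplicative.ofAdd ![0, 1]) with he
  have hce : Multiplicative.toAdd (c e) = ![0, 1] := by rw [he, MulEquiv.apply_symm_apply]; rfl
  have hφb : φ b = b * e := by
    have h1 := hφ ⟨b, hb⟩
    have h2 : ι ⟨b, hb⟩ = 1 := by
      have h3 := congrFun (congrFun ((hι ⟨b, hb⟩).unique hbM) 0) 1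
      simpa using h3
    rw [h2] at h1
    rw [h1]
    congr 2
    apply c.injective
    apply Multiplicative.toAdd.injective
    rw [hct, hce]
    ext i
    (revert i; simp [_root_.Fin.forall_fin_succ])
  set! n : G := g * φ g⁻¹ with hn
  have hnE : ∀ y ∈ E, n * y * n⁻¹ = y := by
    intro y hy
    have h1 : n * y * n⁻¹ = g * φ (g⁻¹ * y * g) * g⁻¹ := by
      rw [hn, map_mul, map_mul, hφE y hy, map_inv]
      group
    rw [h1, hgE' y hy, hφE _ (E.inv_mem hy), hgE _ (E.inv_mem hy), inv_inv]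
  have hnb : n * b * n⁻¹ = b * ((e : G)⁻¹ * (e : G)⁻¹) := by
    have h1 : φ (b * (e : G)⁻¹) = b := by
      rw [map_mul, map_inv, hφE _ e.2, hφb, mul_inv_cancel_right]
    have h2 : n * b * n⁻¹ = g * φ (g⁻¹ * (b * (e : G)⁻¹) * g) * g⁻¹ := by
      rw [map_mul, map_mul, h1, hn, map_inv]
      group
    have h3 : g⁻¹ * (b * (e : G)⁻¹) * g = b * y₀ * e := by
      have h4 : g⁻¹ * (b * (e : G)⁻¹) * g = (g⁻¹ * b * g) * (g⁻¹ * (e : G)⁻¹ * g) := by group
      rw [h4, hgb', hgE' _ (E.inv_mem e.2), inv_inv]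
    rw [h2, h3, map_mul, map_mul, hφb, hφE _ hy₀E, hφE _ e.2]
    have h5 : g * (b * e * y₀ * e) * g⁻¹ =
        (g * b * g⁻¹) * (g * e * g⁻¹) * (g * y₀ * g⁻¹) * (g * e * g⁻¹) := by group
    rw [h5, hgb, hgE _ e.2, hgE _ hy₀E]
    have h6 := h.hE _ hy₀E _ (E.inv_mem e.2)
    have h7 : b * y₀ * (e : G)⁻¹ * y₀⁻¹ * (e : G)⁻¹ = b * (y₀ * (e : G)⁻¹) * y₀⁻¹ * (e : G)⁻¹ := by group
    rw [h7, h6]
    group
  have hnpow : ∀ i : ℕ, n ^ i * b * (n ^ i)⁻¹ = b * ((e : G)⁻¹ * (e : G)⁻¹) ^ i := by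
    intro i
    induction i with
    | zero => simp
    | succ i ih =>
      have h1 : n ^ (i + 1) * b * (n ^ (i + 1))⁻¹ = n * (n ^ i * b * (n ^ i)⁻¹) * n⁻¹ := by
        rw [pow_succ']; group
      have h2 : n * (b * ((e : G)⁻¹ * (e : G)⁻¹) ^ i) * n⁻¹ =
        (n * b * n⁻¹) * (n * ((e : G)⁻¹ * (e : G)⁻¹) ^ i * n⁻¹) := by group
      rw [h1, ih, h2, hnb, hnE _ (E.pow_mem (E.mul_mem (E.inv_mem e.2) (E.inv_mem e.2)) i), pow_succ', mul_assoc]
  have hnP : ∀ x ∈ P, n * x * n⁻¹ ∈ P := by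
    intro x hx
    obtain ⟨x', hx', i, rfl⟩ := h.exists_mul hQ hb hbM hx
    have h1 : n * (x' * b ^ i) * n⁻¹ = (n * x' * n⁻¹) * (n * b * n⁻¹) ^ i := by rw [conj_pow]; group
    rw [h1, hnE x' hx', hnb]
    exact P.mul_mem (h.hEP hx') (P.pow_mem (P.mul_mem hb (h.hEP (E.mul_mem (E.inv_mem e.2) (E.inv_mem e.2)))) i)
  obtain ⟨m, ⟨j, rfl⟩, k, hk⟩ := exists_p_part (p := p) n 1
  have hu : n ^ (1 + p ^ 1 * j) ∈ P :=
    h.hP.mem_of_normalizes trivial ⟨k, hk⟩ (pow_mem (mem_normalizer_fin hnP) _)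
  have hnC : n ∈ centralizer (E : Set G) := by
    rw [mem_centralizer_iff]
    intro y hy
    have h1 := hnE y hy
    have h2 : n * y * n⁻¹ * n = y * n := by rw [h1]
    rw [inv_mul_cancel_right] at h2
    exact h2.symm
  have huE : n ^ (1 + p ^ 1 * j) ∈ E := by
    refine hQ _ hu (fun x hx => ?_)
    have h1 := pow_mem hnC (1 + p ^ 1 * j)
    rw [mem_centralizer_iff] at h1
    exact (h1 x hx).symm
  have h1 := hnpow (1 + p ^ 1 * j)
  have h1' : ((e : G)⁻¹ * (e : G)⁻¹) ^ (1 + p ^ 1 * j) = (e : G)⁻¹ * (e : G)⁻¹ := by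
    rw [pow_add, pow_one, pow_one, pow_mul, h.hEp _ (E.mul_mem (E.inv_mem e.2) (E.inv_mem e.2)), one_pow, mul_one]
  rw [h1'] at h1
  set! u : G := n ^ (1 + p ^ 1 * j) with hudef; rewrite [← hudef] at h1 huE hu hk
  have h2 : b⁻¹ * u * b = (e : G)⁻¹ * (e : G)⁻¹ * u := by
    have h3 : b⁻¹ * (u * b * u⁻¹) * u = b⁻¹ * u * b := by group
    rw [← h3, h1]
    group
  have h3 := hinvM ⟨b, hb⟩ ⟨u, huE⟩
  have h4 : mv c !![1, -ι ⟨b, hb⟩; 0, 1] ⟨u, huE⟩ = e⁻¹ * e⁻¹ * ⟨u, huE⟩ := Subtype.ext (h3.symm.trans h2)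
  have h5 := congrFun (congrArg (fun x => Multiplicative.toAdd (c x)) h4) 1
  simp only [c_mv, map_mul, map_inv, toAdd_mul, toAdd_inv, hce] at h5
  simp only [Matrix.mulVec, dotProduct, Fin.sum_univ_two, _root_.Matrix.mulVec, _root_.dotProduct, _root_.Fin.isValue, _root_.Matrix.of_apply, _root_.Matrix.cons_val', _root_.Matrix.cons_val_fin_one, _root_.Matrix.cons_val_one, _root_.Fin.sum_univ_two, _root_.Matrix.cons_val_zero, _root_.MulZeroClass.zero_mul, _root_.one_mul, _root_.zero_add, _root_.Nat.succ_eq_add_one, _root_.Nat.reduceAdd, _root_.Matrix.neg_cons, _root_.neg_zero, _root_.Matrix.neg_empty, _root_.Matrix.add_cons, _root_.Matrix.head_cons, _root_.add_zero, _root_.Matrix.tail_cons, _root_.Matrix.empty_add_empty, _root_.Pi.add_apply, _root_.right_eq_add] at h5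
  apply h2ne
  linear_combination (-1 : ZMod p) * h5

end St

end Cfsg.Agent.H486.Hg
end

-- part: H486/HgIface
section
/-!
# Homogeneous finite groups: the local information (helper486, for S3923)

`Loc G` collects what is proved about every homogeneous finite group (with the Schreier property) in the files
`H486/Hg*.lean` (theorem `Hg.loc`): Sylow subgroups for odd primes are cyclic, or `p = 3`, they are abelian and have a
very small automizer; there is no elementary abelian subgroup of order 16, and one of order 8 forces `1344 ∣ |G|`.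
-/

set_option autoImplicit false

namespace Cfsg.Agent.H486.Hg

open Subgroup

/-- local information about homogeneous groups -/
structure Loc (G : Type*) [Group G] : Prop where
  /-- Sylow subgroups for odd primes -/
  odd : ∀ (p : ℕ) [Fact p.Prime], p ≠ 2 → ∀ P : Sylow p G, IsCyclic (P : Subgroup G) ∨
    (p = 3 ∧ (∀ x ∈ (P : Subgroup G), ∀ y ∈ (P : Subgroup G), x * y = y * x) ∧
      ∀ g ∈ normalizer ((P : Subgroup G) : Set G),
        (∀ x ∈ (P : Subgroup G), g * x * g⁻¹ = x) ∨ (∀ x ∈ (P : Subgroup G), g * x * g⁻¹ = x⁻¹) ∨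
          (∀ x ∈ (P : Subgroup G), g ^ 2 * x * (g ^ 2)⁻¹ = x⁻¹))
  /-- no elementary abelian subgroup of order 16 -/
  two : ∀ E : Subgroup G, (∀ x ∈ E, ∀ y ∈ E, x * y = y * x) → (∀ x ∈ E, x ^ 2 = 1) → Nat.card E ≤ 8
  /-- an elementary abelian subgroup of order 8 has automizer `GL₃(2)` -/
  two8 : ∀ E : Subgroup G, (∀ x ∈ E, ∀ y ∈ E, x * y = y * x) → (∀ x ∈ E, x ^ 2 = 1) → Nat.card E = 8 →
    1344 ∣ Nat.card G

end Cfsg.Agent.H486.Hg
end

-- part: H486/HgTwo
section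
/-!
# Homogeneous finite groups: the local information (helper486)

`loc` : every homogeneous finite group with the Schreier property satisfies `Loc`.
-/

set_option autoImplicit false
set_option linter.unusedSectionVars false

namespace Cfsg.Agent.H486.Hg

open Subgroup Cfsg.Agent.H486.Sn Cfsg.Agent.Schreier.Basic Matrix

universe u

variable {G : Type u} [Group G] [Finite G]

theorem isSyl_top {p : ℕ} [Fact p.Prime] (S : Sylow p G) : IsSyl p (⊤ : Subgroup G) (S : Subgroup G) := by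
  refine ⟨le_top, S.isPGroup', fun Q _ hQp => ?_⟩
  obtain ⟨S', hS'⟩ := hQp.exists_le_sylow
  refine (Subgroup.card_le_of_le hS').trans ?_
  rw [Sylow.card_eq_multiplicity, Sylow.card_eq_multiplicity]

/-- the alternative for Sylow subgroups -/
def Alt (p : ℕ) (P : Subgroup G) : Prop :=
  IsCyclic P ∨
    (p = 3 ∧ (∀ x ∈ P, ∀ y ∈ P, x * y = y * x) ∧
      ∀ g ∈ normalizer (P : Set G),
        (∀ x ∈ P, g * x * g⁻¹ = x) ∨ (∀ x ∈ P, g * x * g⁻¹ = x⁻¹) ∨
          (∀ x ∈ P, g ^ 2 * x * (g ^ 2)⁻¹ = x⁻¹))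

theorem alt {p : ℕ} [hp : Fact p.Prime] (hS : Sch G) (hH : Homog G) (hp2 : p ≠ 2) {P : Subgroup G}
    (hP : IsSyl p (⊤ : Subgroup G) P) : Alt p P := by
  by_cases hc : IsCyclic P
  · exact Or.inl hc
  obtain ⟨E, hE⟩ := exists_St hS hH hp2 hP hc
  have h1 := hE.centralises_E hp2 hH
  have h2 := hE.lt_five hS hH h1
  have h3 : p = 3 := by
    have h4 := hp.out.two_le
    have h5 : p ≠ 4 := by rintro rfl; exact absurd hp.out (by norm_num)
    omega
  subst h3
  exact Or.inr ⟨rfl, hE.three hH h1⟩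

/-! ### no elementary abelian subgroup of order 16 -/

section four

/-- `diag(ω, 1)` -/
def C1 : Matrix (Fin 4) (Fin 4) (ZMod 2) := !![0, 1, 0, 0; 1, 1, 0, 0; 0, 0, 1, 0; 0, 0, 0, 1]
/-- `diag(1, ω)` -/
def C2 : Matrix (Fin 4) (Fin 4) (ZMod 2) := !![1, 0, 0, 0; 0, 1, 0, 0; 0, 0, 0, 1; 0, 0, 1, 1]
/-- `diag(s, 1)` -/
def T1 : Matrix (Fin 4) (Fin 4) (ZMod 2) := !![0, 1, 0, 0; 1, 0, 0, 0; 0, 0, 1, 0; 0, 0, 0, 1]

theorem C1C2 : C1 * C2 = C2 * C1 := by decide +kernel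
theorem C1_cube : C1 * (C1 * C1) = 1 := by decide +kernel
theorem C2_cube : C2 * (C2 * C2) = 1 := by decide +kernel
theorem T1_sq : T1 * T1 = 1 := by decide +kernel
theorem T1C1 : T1 * C1 = C1 * C1 * T1 := by decide +kernel
theorem T1C2 : T1 * C2 = C2 * T1 := by decide +kernel
theorem C1_ne : C1 ≠ C1 * C1 := by decide +kernel
theorem C2_ne : C2 ≠ C2 * C2 := by decide +kernel
theorem C2_ne1 : C2 ≠ 1 := by decide +kernel

theorem det_eq_one {M M' : Matrix (Fin 4) (Fin 4) (ZMod 2)} (h : M * M' = 1) : M.det = 1 := by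
  have h1 := congrArg Matrix.det h
  rw [Matrix.det_mul, Matrix.det_one] at h1
  have h2 : ∀ a b : ZMod 2, a * b = 1 → a = 1 := by decide
  exact h2 _ _ h1

/-- an abelian Sylow subgroup normalised "up to" the centraliser of `T` -/
theorem exists_norm {p : ℕ} [hp : Fact p.Prime] {T P : Subgroup G} (hP : IsSyl p (⊤ : Subgroup G) P) (hTP : T ≤ P)
    (hPc : ∀ x ∈ P, ∀ y ∈ P, x * y = y * x) {g : G} (hg : ∀ x ∈ T, g * x * g⁻¹ ∈ T) :
    ∃ h ∈ normalizer (P : Set G), ∀ x ∈ T, h * x * h⁻¹ = g * x * g⁻¹ := by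
  set! D : Subgroup G := centralizer (T : Set G) with hD
  have hDmem : ∀ x, x ∈ D ↔ ∀ e ∈ T, x * e = e * x := by
    intro x
    rw [hD, mem_centralizer_iff]
    exact ⟨fun h1 y hy => (h1 y hy).symm, fun h1 y hy => (h1 y hy).symm⟩
  have hPD : P ≤ D := fun x hx => (hDmem x).2 fun e he => hPc x hx e (hTP he)
  have hgT := mem_normalizer_fin hg
  have h1 : cj g P ≤ D := by
    intro x hx
    rw [mem_cj] at hx
    rw [hDmem]
    intro e he
    have h2 : g⁻¹ * e * g ∈ T := by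
      have := mem_normalizer' (inv_mem hgT) he
      rwa [inv_inv] at this
    have h3 := hPc _ hx _ (hTP h2)
    have h4 : x * e = g * ((g⁻¹ * x * g) * (g⁻¹ * e * g)) * g⁻¹ := by group
    rw [h4, h3]
    group
  obtain ⟨d, hd, hle⟩ := (hP.restrict hPD le_top).exists_conj_le h1 (isPGroup_cj hP.isPGroup g)
  refine ⟨d⁻¹ * g, mem_normalizer_fin fun x hx => ?_, fun x hx => ?_⟩
  · have h2 : g * x * g⁻¹ ∈ cj g P := by
      rw [mem_cj]
      have h2 : g⁻¹ * (g * x * g⁻¹) * g = x := by group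
      rwa [h2]
    have h3 := hle h2
    rw [mem_cj] at h3
    have h4 : d⁻¹ * (g * x * g⁻¹) * d = d⁻¹ * g * x * (d⁻¹ * g)⁻¹ := by group
    rwa [h4] at h3
  · have h2 := (hDmem _).1 (inv_mem hd) _ (hg x hx)
    have h3 : d⁻¹ * g * x * (d⁻¹ * g)⁻¹ = d⁻¹ * (g * x * g⁻¹) * d := by group
    rw [h3, h2]
    group

theorem actM_pow' {E : Subgroup G} {p k : ℕ} [Fact p.Prime] {c : E ≃* Multiplicative (Fin k → ZMod p)} {g : G}
    {M : Matrix (Fin k) (Fin k) (ZMod p)} (h : ActM c g M) (n : ℕ) : ActM c (g ^ n) (M ^ n) := by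
  induction n with
  | zero => rw [pow_zero, pow_zero]; exact ActM.one
  | succ n ih => rw [pow_succ, pow_succ]; exact ih.mul h

theorem CC_comm (i j : ℕ) : C1 ^ i * C2 ^ j = C2 ^ j * C1 ^ i :=
  ((show Commute C1 C2 from C1C2).pow_pow i j)

theorem CC_mul (i j k l : ℕ) : C1 ^ i * C2 ^ j * (C1 ^ k * C2 ^ l) = C1 ^ (i + k) * C2 ^ (j + l) := by
  rw [pow_add, pow_add, mul_assoc, ← mul_assoc (C2 ^ j), ← CC_comm k j]
  simp only [mul_assoc]

theorem C1_pow3 : C1 ^ 3 = 1 := by rw [pow_succ', pow_two, C1_cube]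
theorem C2_pow3 : C2 ^ 3 = 1 := by rw [pow_succ', pow_two, C2_cube]

theorem CC_inv (i j : ℕ) : C1 ^ i * C2 ^ j * (C1 ^ (2 * i) * C2 ^ (2 * j)) = 1 := by
  rw [CC_mul]
  have h1 : i + 2 * i = 3 * i := by ring
  have h2 : j + 2 * j = 3 * j := by ring
  rw [h1, h2, pow_mul, pow_mul, C1_pow3, C2_pow3, one_pow, one_pow, mul_one]

theorem CC_inv' (i j : ℕ) : C1 ^ (2 * i) * C2 ^ (2 * j) * (C1 ^ i * C2 ^ j) = 1 := by
  rw [CC_mul]
  have h1 : 2 * i + i = 3 * i := by ring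
  have h2 : 2 * j + j = 3 * j := by ring
  rw [h1, h2, pow_mul, pow_mul, C1_pow3, C2_pow3, one_pow, one_pow, mul_one]

/-- the elements acting as an element of `⟨C1, C2⟩` -/
def YC {E : Subgroup G} (c : E ≃* Multiplicative (Fin 4 → ZMod 2)) : Subgroup G where
  carrier := {g | ∃ i j : ℕ, ActM c g (C1 ^ i * C2 ^ j)}
  mul_mem' := by
    rintro g g' ⟨i, j, h⟩ ⟨i', j', h'⟩
    refine ⟨i + i', j + j', ?_⟩
    rw [← CC_mul]
    exact h.mul h'
  one_mem' := ⟨0, 0, by rw [pow_zero, pow_zero, mul_one]; exact ActM.one⟩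
  inv_mem' := by
    rintro g ⟨i, j, h⟩
    exact ⟨2 * i, 2 * j, h.inv (CC_inv i j)⟩

/-- **There is no elementary abelian subgroup of order 16.** -/
theorem no_sixteen (hS : Sch G) (hH : Homog G) {E : Subgroup G} (hE : ∀ x ∈ E, ∀ y ∈ E, x * y = y * x)
    (hE2 : ∀ x ∈ E, x ^ 2 = 1) (hEc : Nat.card E = 2 ^ 4) : False := by
  have : Fact (Nat.Prime 2) := ⟨Nat.prime_two⟩
  have : Fact (Nat.Prime 3) := ⟨Nat.prime_three⟩
  obtain ⟨c⟩ := exists_equiv (A := E) (p := 2) (k := 4) (fun x y => Subtype.ext (hE x x.2 y y.2))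
    (fun x => Subtype.ext (by simpa only [_root_.SubmonoidClass.coe_pow, _root_.OneMemClass.coe_one] using hE2 x x.2)) hEc
  have hsl : ∀ M M' : Matrix (Fin 4) (Fin 4) (ZMod 2), M * M' = 1 → ∃ g : G, ActM c g M := by
    intro M M' hM
    obtain ⟨g, hg⟩ := exists_inner_sl hS hH c (Or.inl (by norm_num)) ⟨M, det_eq_one hM⟩
    exact ⟨g, fun x => hg x⟩
  obtain ⟨T, hT⟩ := exists_isSyl 3 (YC c)
  have hYE : ∀ y ∈ YC c, ∀ x ∈ E, y * x * y⁻¹ ∈ E := by
    rintro y ⟨i, j, h⟩ x hx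
    exact h.mem x hx
  have hab : ∀ y ∈ YC c, ∀ y' ∈ YC c, ∀ x ∈ E, y * (y' * x * y'⁻¹) * y⁻¹ = y' * (y * x * y⁻¹) * y'⁻¹ := by
    rintro y ⟨i, j, h⟩ y' ⟨i', j', h'⟩ x hx
    have h1 := (h.mul h') ⟨x, hx⟩
    have h2 := (h'.mul h) ⟨x, hx⟩
    rw [CC_mul] at h1 h2
    rw [add_comm i' i, add_comm j' j, ← h1] at h2
    have h3 : y * (y' * x * y'⁻¹) * y⁻¹ = y * y' * x * (y * y')⁻¹ := by group
    have h4 : y' * (y * x * y⁻¹) * y'⁻¹ = y' * y * x * (y' * y)⁻¹ := by group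
    rw [h3, h4]
    exact h2.symm
  have hτ : ∀ M : Matrix (Fin 4) (Fin 4) (ZMod 2), (∃ i j : ℕ, M = C1 ^ i * C2 ^ j) → ∃ τ ∈ T, ActM c τ M := by
    rintro _ ⟨i, j, rfl⟩
    obtain ⟨g, hg⟩ := hsl _ _ (CC_inv i j)
    obtain ⟨τ, hτ, hτ2⟩ := exists_act_eq (n := 1) hT hYE hab (g := g) ⟨i, j, hg⟩ (by
      intro x hx
      have h1 := actM_pow' hg (3 ^ 1)
      have h2 : (C1 ^ i * C2 ^ j) ^ 3 ^ 1 = 1 := by
        rw [pow_one, pow_succ, pow_two, CC_mul, CC_mul]
        have h1 : i + i + i = 3 * i := by ring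
        have h2 : j + j + j = 3 * j := by ring
        rw [h1, h2, pow_mul, pow_mul, C1_pow3, C2_pow3, one_pow, one_pow, mul_one]
      rw [h2] at h1
      exact h1.centralises x hx)
    exact ⟨τ, hτ, fun x => (hτ2 x x.2).trans (hg x)⟩
  obtain ⟨τ₁, hτ₁, hA₁⟩ := hτ C1 ⟨1, 0, by rw [pow_one, pow_zero, mul_one]⟩
  obtain ⟨τ₂, hτ₂, hA₂⟩ := hτ C2 ⟨0, 1, by rw [pow_one, pow_zero, one_mul]⟩
  -- the element inducing `T1`
  obtain ⟨g₁, hg₁⟩ := hsl T1 T1 T1_sq
  have hg₁i : ActM c g₁⁻¹ T1 := hg₁.inv T1_sq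
  have hcomm1 : ∀ i j : ℕ, T1 * (C1 ^ i * C2 ^ j) * T1 = C1 ^ (2 * i) * C2 ^ j := by
    have h1 : ∀ i : ℕ, T1 * C1 ^ i = C1 ^ (2 * i) * T1 := by
      intro i
      induction i with
      | zero => simp
      | succ i ih =>
        rw [pow_succ, ← mul_assoc, ih, mul_assoc, T1C1, ← mul_assoc, ← mul_assoc]
        have : 2 * (i + 1) = 2 * i + 1 + 1 := by ring
        rw [this, pow_succ, pow_succ]
    have h2 : ∀ j : ℕ, T1 * C2 ^ j = C2 ^ j * T1 := fun j => (show Commute T1 C2 from T1C2).pow_right j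
    intro i j
    rw [← mul_assoc, h1, mul_assoc, mul_assoc, ← mul_assoc T1, h2, mul_assoc, T1_sq, mul_one]
  have hY : cj g₁ T ≤ YC c := by
    intro x hx
    rw [mem_cj] at hx
    obtain ⟨i, j, h⟩ := hT.le hx
    have h1 := (hg₁.mul h).mul hg₁i
    rw [hcomm1] at h1
    have h2 : g₁ * (g₁⁻¹ * x * g₁) * g₁⁻¹ = x := by group
    rw [h2] at h1
    exact ⟨_, _, h1⟩
  obtain ⟨y, ⟨i, j, hy⟩, hyT⟩ := hT.exists_conj_le hY (isPGroup_cj hT.isPGroup g₁)
  set! g : G := y⁻¹ * g₁ with hg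
  have hgT : ∀ x ∈ T, g * x * g⁻¹ ∈ T := by
    intro x hx
    have h1 : g₁ * x * g₁⁻¹ ∈ cj g₁ T := by
      rw [mem_cj]
      have h2 : g₁⁻¹ * (g₁ * x * g₁⁻¹) * g₁ = x := by group
      rwa [h2]
    have h2 := hyT h1
    rw [mem_cj] at h2
    have h3 : y⁻¹ * (g₁ * x * g₁⁻¹) * y = g * x * g⁻¹ := by rw [hg]; group
    rwa [h3] at h2
  have hgA : ActM c g (C1 ^ (2 * i) * C2 ^ (2 * j) * T1) := (hy.inv (CC_inv i j)).mul hg₁
  have hgA' : ActM c g⁻¹ (T1 * (C1 ^ i * C2 ^ j)) := by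
    refine hgA.inv ?_
    rw [mul_assoc, ← mul_assoc T1, T1_sq, one_mul, CC_inv']
  -- the action of `g`
  have hact1 : ActM c (g * τ₁ * g⁻¹) (C1 * C1) := by
    have h1 := (hgA.mul hA₁).mul hgA'
    have h2 : C1 ^ (2 * i) * C2 ^ (2 * j) * T1 * C1 * (T1 * (C1 ^ i * C2 ^ j)) = C1 * C1 := by
      have h3 : C1 ^ (2 * i) * C2 ^ (2 * j) * T1 * C1 * (T1 * (C1 ^ i * C2 ^ j)) =
          C1 ^ (2 * i) * C2 ^ (2 * j) * (T1 * (C1 ^ 1 * C2 ^ 0) * T1) * (C1 ^ i * C2 ^ j) := by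
        rw [pow_one, pow_zero, mul_one]; simp only [mul_assoc]
      rw [h3, hcomm1, CC_mul, CC_mul]
      have h4 : 2 * i + 2 * 1 + i = 3 * i + 2 := by ring
      have h5 : 2 * j + 0 + j = 3 * j := by ring
      rw [h4, h5, pow_add, pow_mul, pow_mul, C1_pow3, C2_pow3, one_pow, one_pow, mul_one, one_mul, pow_two]
    rwa [h2] at h1
  have hact2 : ∀ τ, ActM c τ C2 → ActM c (g * τ * g⁻¹) C2 := by
    intro τ hτ
    have h1 := (hgA.mul hτ).mul hgA'
    have h2 : C1 ^ (2 * i) * C2 ^ (2 * j) * T1 * C2 * (T1 * (C1 ^ i * C2 ^ j)) = C2 := by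
      have h3 : C1 ^ (2 * i) * C2 ^ (2 * j) * T1 * C2 * (T1 * (C1 ^ i * C2 ^ j)) =
          C1 ^ (2 * i) * C2 ^ (2 * j) * (T1 * (C1 ^ 0 * C2 ^ 1) * T1) * (C1 ^ i * C2 ^ j) := by
        rw [pow_one, pow_zero, one_mul]; simp only [mul_assoc]
      rw [h3, hcomm1, CC_mul, CC_mul]
      have h4 : 2 * i + 2 * 0 + i = 3 * i := by ring
      have h5 : 2 * j + 1 + j = 3 * j + 1 := by ring
      rw [h4, h5, pow_add, pow_mul, pow_mul, C1_pow3, C2_pow3, one_pow, one_pow, one_mul, one_mul, pow_one]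
    rwa [h2] at h1
  -- the Sylow subgroup
  obtain ⟨P, hP, hTP⟩ := exists_isSyl_ge (p := 3) (Y := (⊤ : Subgroup G)) le_top hT.isPGroup
  have hC2i : C2 * (C2 * C2) = 1 := C2_cube
  rcases alt hS hH (by norm_num) hP with hcyc | ⟨-, hPc, hPn⟩
  · -- cyclic
    have hPc : ∀ x ∈ P, ∀ y ∈ P, x * y = y * x := by
      intro x hx y hy
      have : Std.Commutative (fun a b : P => a * b) := ⟨fun a b => (IsCyclic.commGroup (α := P)).mul_comm a b⟩
      exact congrArg Subtype.val ((IsCyclic.commGroup (α := P)).mul_comm ⟨x, hx⟩ ⟨y, hy⟩)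
    obtain ⟨h, hh, hhT⟩ := exists_norm hP hTP hPc hgT
    obtain ⟨x₀, hx₀⟩ := hcyc.exists_generator
    have h1 : h * x₀ * h⁻¹ ∈ P := mem_normalizer' hh x₀.2
    obtain ⟨m, hm⟩ := (mem_powers_iff_mem_zpowers (x := x₀)).2 (hx₀ ⟨_, h1⟩)
    have hm' : (x₀ : G) ^ m = h * x₀ * h⁻¹ := congrArg Subtype.val hm
    have h2 : ∀ x ∈ P, h * x * h⁻¹ = x ^ m := by
      intro x hx
      obtain ⟨l, hl⟩ := hx₀ ⟨x, hx⟩
      have hl' : (x₀ : G) ^ l = x := congrArg Subtype.val hl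
      rw [← hl', ← conj_zpow, ← hm', ← zpow_natCast, ← zpow_natCast, ← _root_.zpow_mul, ← _root_.zpow_mul, mul_comm]
    have h3 := actM_pow' hA₁ m
    rw [← h2 _ (hTP hτ₁), hhT _ hτ₁] at h3
    have h4 := actM_pow' hA₂ m
    rw [← h2 _ (hTP hτ₂), hhT _ hτ₂] at h4
    have h5 := h3.unique hact1
    have h6 := h4.unique (hact2 _ hA₂)
    have h7 : C1 ^ m = C1 ^ (m % 3) := by
      conv_lhs => rw [← Nat.div_add_mod m 3]
      rw [pow_add, pow_mul, C1_pow3, one_pow, one_mul]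
    have h8 : C2 ^ m = C2 ^ (m % 3) := by
      conv_lhs => rw [← Nat.div_add_mod m 3]
      rw [pow_add, pow_mul, C2_pow3, one_pow, one_mul]
    rw [h7] at h5
    rw [h8] at h6
    have h9 : m % 3 < 3 := Nat.mod_lt _ (by norm_num)
    interval_cases m % 3
    · rw [pow_zero] at h6; exact C2_ne1 h6.symm
    · rw [pow_one] at h5; exact C1_ne h5
    · rw [pow_two] at h6; exact C2_ne h6.symm
  · obtain ⟨h, hh, hhT⟩ := exists_norm hP hTP hPc hgT
    have hinv2 : ActM c τ₂⁻¹ (C2 * C2) := hA₂.inv C2_cube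
    rcases hPn h hh with h1 | h1 | h1
    · have h2 := h1 _ (hTP hτ₁)
      rw [hhT _ hτ₁] at h2
      rw [h2] at hact1
      exact C1_ne (hA₁.unique hact1)
    · have h2 := h1 _ (hTP hτ₂)
      rw [hhT _ hτ₂] at h2
      have h3 := hact2 _ hA₂
      rw [h2] at h3
      exact C2_ne (h3.unique hinv2)
    · have h2 := h1 _ (hTP hτ₂)
      have h3 : h ^ 2 * τ₂ * (h ^ 2)⁻¹ = h * (h * τ₂ * h⁻¹) * h⁻¹ := by rw [pow_two]; group
      rw [h3, hhT _ hτ₂, hhT _ (hgT _ hτ₂)] at h2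
      have h4 := hact2 _ (hact2 _ hA₂)
      rw [h2] at h4
      exact C2_ne (h4.unique hinv2)

end four

/-! ### elementary abelian subgroups of order 8 -/

theorem dvd_of_eight (hS : Sch G) (hH : Homog G) {E : Subgroup G} (hE : ∀ x ∈ E, ∀ y ∈ E, x * y = y * x)
    (hE2 : ∀ x ∈ E, x ^ 2 = 1) (hEc : Nat.card E = 8) : 1344 ∣ Nat.card G := by
  have : Fact (Nat.Prime 2) := ⟨Nat.prime_two⟩
  obtain ⟨c⟩ := exists_equiv (A := E) (p := 2) (k := 3) (fun x y => Subtype.ext (hE x x.2 y y.2))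
    (fun x => Subtype.ext (by simpa only [_root_.SubmonoidClass.coe_pow, _root_.OneMemClass.coe_one] using hE2 x x.2)) (by rw [hEc]; norm_num)
  let N : Subgroup G :=
    { carrier := {g | ∃ M : _root_.Matrix.SpecialLinearGroup (Fin 3) (ZMod 2), ActM c g M.1}
      mul_mem' := by
        rintro g g' ⟨M, h⟩ ⟨M', h'⟩
        exact ⟨M * M', h.mul h'⟩
      one_mem' := ⟨1, ActM.one⟩
      inv_mem' := by
        rintro g ⟨M, h⟩
        exact ⟨M⁻¹, h.inv ((congrArg Subtype.val (mul_inv_cancel M) :))⟩ }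
  let ρ : N →* _root_.Matrix.SpecialLinearGroup (Fin 3) (ZMod 2) :=
    { toFun := fun g => g.2.choose
      map_one' := Subtype.ext ((1 : N).2.choose_spec.unique ActM.one)
      map_mul' := fun g g' => Subtype.ext
        ((g * g').2.choose_spec.unique (g.2.choose_spec.mul g'.2.choose_spec)) }
  have hρ : ∀ (g : N) (M : _root_.Matrix.SpecialLinearGroup (Fin 3) (ZMod 2)), ActM c (g : G) M.1 → ρ g = M := fun g M h =>
    Subtype.ext (g.2.choose_spec.unique h)
  have hsurj : Function.Surjective ρ := by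
    intro M
    obtain ⟨g, hg⟩ := exists_inner_sl hS hH c (Or.inl (by norm_num)) M
    exact ⟨⟨g, M, fun x => hg x⟩, hρ _ _ (fun x => hg x)⟩
  have hE1 : ∀ x ∈ E, ActM c x (1 : _root_.Matrix.SpecialLinearGroup (Fin 3) (ZMod 2)).1 := by
    intro x hx y
    change _ = (mv c 1 y : G)
    rw [mv_one, hE x hx y y.2, mul_inv_cancel_right]
  have hEN : E ≤ N := fun x hx => ⟨1, hE1 x hx⟩
  have hker : E.subgroupOf N ≤ ρ.ker := by
    intro x hx
    rw [MonoidHom.mem_ker]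
    exact hρ x 1 (hE1 x hx)
  have h8 : 8 ∣ Nat.card ρ.ker := by
    have h1 := Subgroup.card_dvd_of_le hker
    rwa [Nat.card_congr (Subgroup.subgroupOfEquivOfLe hEN).toEquiv, hEc] at h1
  have h1 : Nat.card ρ.ker * 168 = Nat.card N := by
    rw [← Subgroup.card_mul_index ρ.ker, Subgroup.index_ker, MonoidHom.range_eq_top.2 hsurj, Subgroup.card_top,
      Cfsg.Agent.H821.SLTwo.card_three]
  have h2 : 1344 ∣ Nat.card N := by
    rw [← h1]
    exact Nat.mul_dvd_mul h8 (dvd_refl 168)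
  exact h2.trans (Subgroup.card_subgroup_dvd_card N)

/-- **The local information about homogeneous groups.** -/
theorem loc (hS : Sch G) (hH : Homog G) : Loc G where
  odd p _ hp2 P := alt hS hH hp2 (isSyl_top P)
  two E hE hE2 := by
    by_contra hcon
    push Not at hcon
    have : Fact (Nat.Prime 2) := ⟨Nat.prime_two⟩
    have hEP : IsPGroup 2 E := fun x => ⟨1, Subtype.ext (by simpa only [_root_.pow_one, _root_.SubmonoidClass.coe_pow, _root_.OneMemClass.coe_one] using hE2 x x.2)⟩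
    obtain ⟨n, hn⟩ := IsPGroup.iff_card.1 hEP
    have hn4 : 4 ≤ n := by
      by_contra h4
      push Not at h4
      have : n ≤ 3 := by omega
      have := Nat.pow_le_pow_right (n := 2) (by norm_num) this
      omega
    obtain ⟨F, hF⟩ := Sylow.exists_subgroup_card_pow_prime (G := E) 2 (n := 4) (by
      rw [hn]; exact Nat.pow_dvd_pow 2 hn4)
    refine no_sixteen hS hH (E := F.map E.subtype) ?_ ?_ ?_
    · rintro _ ⟨x, -, rfl⟩ _ ⟨y, -, rfl⟩
      exact hE x x.2 y y.2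
    · rintro _ ⟨x, -, rfl⟩
      exact hE2 x x.2
    · rw [Subgroup.card_map_of_injective E.subtype_injective, hF]
  two8 E hE hE2 hc := dvd_of_eight hS hH hE hE2 hc

end Cfsg.Agent.H486.Hg
end

-- part: H486/HgSL
section
/-!
# Homogeneous finite groups: `SL₂(q)` and `PSL₂(q)` (helper486)
-/

set_option autoImplicit false
set_option linter.unusedSectionVars false

namespace Cfsg.Agent.H486.Hg.SLT

open Subgroup Cfsg.Agent.H486.Hg Cfsg.Agent.Schreier.Basic Cfsg.Agent.Lib.SL2Mat Cfsg.Agent.Lib.AutSL2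

universe u

theorem exists_zpowers_equiv {G H : Type*} [Group G] [Group H] {x : G} {y : H} (h : orderOf x = orderOf y) :
    ∃ e : zpowers x ≃* zpowers y, (e ⟨x, mem_zpowers x⟩ : H) = y := by
  have hx : ∀ z : zpowers x, z ∈ zpowers (⟨x, mem_zpowers x⟩ : zpowers x) := by
    rintro ⟨z, k, rfl⟩
    exact ⟨k, Subtype.ext rfl⟩
  have hy : ∀ z : zpowers y, z ∈ zpowers (⟨y, mem_zpowers y⟩ : zpowers y) := by
    rintro ⟨z, k, rfl⟩
    exact ⟨k, Subtype.ext rfl⟩
  refine ⟨mulEquivOfOrderOfEq hx hy (by rw [Subgroup.orderOf_mk, Subgroup.orderOf_mk, h]), ?_⟩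
  rw [mulEquivOfOrderOfEq_apply_gen]

/-- in a homogeneous group elements of the same order are conjugate under the automorphism group -/
theorem exists_aut_of_orderOf {G : Type*} [Group G] (hH : Homog G) {x y : G} (h : orderOf x = orderOf y) :
    ∃ φ : MulAut G, φ x = y := by
  obtain ⟨e, he⟩ := exists_zpowers_equiv h
  obtain ⟨φ, hφ⟩ := hH _ _ e
  exact ⟨φ, (hφ ⟨x, mem_zpowers x⟩).trans he⟩

section tr

variable {F : Type*} [Field F]

/-- the trace -/
def tr (x : Matrix.SpecialLinearGroup (Fin 2) F) : F := ent x 0 0 + ent x 1 1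

theorem tr_eq (x : Matrix.SpecialLinearGroup (Fin 2) F) : tr x = x.1.trace := by
  rw [Matrix.trace_fin_two]; rfl

theorem tr_conjGL (g : Matrix.GeneralLinearGroup (Fin 2) F) (x : Matrix.SpecialLinearGroup (Fin 2) F) :
    tr (conjGL g x) = tr x := by
  rw [tr_eq, conjGL_val, Matrix.trace_mul_comm, ← Matrix.mul_assoc, inv_val_mul_val, Matrix.one_mul, tr_eq]

theorem tr_fieldAut (σ : F ≃+* F) (x : Matrix.SpecialLinearGroup (Fin 2) F) : tr (fieldAut σ x) = σ (tr x) := by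
  simp [tr]

theorem center_cases {c : Matrix.SpecialLinearGroup (Fin 2) F}
    (hc : c ∈ center (Matrix.SpecialLinearGroup (Fin 2) F)) :
    ent c 0 1 = 0 ∧ ent c 1 0 = 0 ∧ ((ent c 0 0 = 1 ∧ ent c 1 1 = 1) ∨ (ent c 0 0 = -1 ∧ ent c 1 1 = -1)) := by
  rw [Matrix.SpecialLinearGroup.mem_center_iff] at hc
  obtain ⟨r, hr, hrA⟩ := hc
  have h00 : ent c 0 0 = r := by
    have := congrFun (congrFun hrA 0) 0
    simp at this
    exact this.symm
  have h11 : ent c 1 1 = r := by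
    have := congrFun (congrFun hrA 1) 1
    simp at this
    exact this.symm
  have h01 : ent c 0 1 = 0 := by
    have := congrFun (congrFun hrA 0) 1
    simp at this
    exact this.symm
  have h10 : ent c 1 0 = 0 := by
    have := congrFun (congrFun hrA 1) 0
    simp at this
    exact this.symm
  refine ⟨h01, h10, ?_⟩
  rw [h00, h11]
  have hr2 : r * r = 1 := by rw [← pow_two]; simpa only [_root_.sq_eq_one_iff, _root_.Fintype.card_fin] using hr
  rcases mul_self_eq_one_iff.1 hr2 with h | h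
  · exact Or.inl ⟨h, h⟩
  · exact Or.inr ⟨h, h⟩

theorem tr_one_mul {c x : Matrix.SpecialLinearGroup (Fin 2) F}
    (hc : c ∈ center (Matrix.SpecialLinearGroup (Fin 2) F)) : tr (c * x) = tr x ∨ tr (c * x) = - tr x := by
  obtain ⟨h01, h10, ⟨h00, h11⟩ | ⟨h00, h11⟩⟩ := center_cases hc
  · left
    simp only [tr, ent_mul, h00, h01, h10, h11]; ring
  · right
    simp only [tr, ent_mul, h00, h01, h10, h11]; ring

theorem tr_sq (x : Matrix.SpecialLinearGroup (Fin 2) F) : tr (x ^ 2) = tr x ^ 2 - 2 := by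
  rw [pow_two]
  simp only [tr, ent_mul]
  linear_combination (-2 : F) * det_eq x

/-- Cayley–Hamilton -/
theorem ch00 (x : Matrix.SpecialLinearGroup (Fin 2) F) (i j : Fin 2) :
    ent (x ^ 2) i j = tr x * ent x i j - ent 1 i j := by
  rw [pow_two]
  have h := det_eq x
  fin_cases i <;> fin_cases j
  · simp only [tr, ent_mul, _root_.Fin.zero_eta, _root_.Fin.isValue, _root_.Cfsg.Agent.Lib.SL2Mat.ent_mul, _root_.Cfsg.Agent.H486.Hg.SLT.tr, _root_.Cfsg.Agent.Lib.SL2Mat.ent_one_00]; linear_combination -h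
  · simp only [tr, ent_mul, _root_.Fin.zero_eta, _root_.Fin.isValue, _root_.Fin.mk_one, _root_.Cfsg.Agent.Lib.SL2Mat.ent_mul, _root_.Cfsg.Agent.H486.Hg.SLT.tr, _root_.Cfsg.Agent.Lib.SL2Mat.ent_one_01, _root_.sub_zero]; ring
  · simp only [tr, ent_mul, _root_.Fin.mk_one, _root_.Fin.isValue, _root_.Fin.zero_eta, _root_.Cfsg.Agent.Lib.SL2Mat.ent_mul, _root_.Cfsg.Agent.H486.Hg.SLT.tr, _root_.Cfsg.Agent.Lib.SL2Mat.ent_one_10, _root_.sub_zero]; ring
  · simp only [tr, ent_mul, _root_.Fin.mk_one, _root_.Fin.isValue, _root_.Cfsg.Agent.Lib.SL2Mat.ent_mul, _root_.Cfsg.Agent.H486.Hg.SLT.tr, _root_.Cfsg.Agent.Lib.SL2Mat.ent_one_11]; linear_combination -h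

variable {G : Type*} [Group G] (π : Matrix.SpecialLinearGroup (Fin 2) F →* G)

theorem tr_of_eq (hk : π.ker ≤ center (Matrix.SpecialLinearGroup (Fin 2) F))
    {x y : Matrix.SpecialLinearGroup (Fin 2) F} (h : π x = π y) : tr x = tr y ∨ tr x = - tr y := by
  have h1 : x * y⁻¹ ∈ π.ker := by
    rw [MonoidHom.mem_ker, map_mul, map_inv, h, mul_inv_cancel]
  have h2 := tr_one_mul (x := y) (hk h1)
  rwa [inv_mul_cancel_right] at h2

/-- the trace under automorphisms -/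
theorem tr_aut [Finite F] (hπ : Function.Surjective π) (hk : π.ker ≤ center (Matrix.SpecialLinearGroup (Fin 2) F))
    (hσ : ∀ (σ : F ≃+* F) (a : F), σ a = a) (φ : MulAut G) {x y : Matrix.SpecialLinearGroup (Fin 2) F}
    (h : φ (π x) = π y) : tr x = tr y ∨ tr x = - tr y := by
  obtain ⟨g, σ, hg⟩ := exists_gl_ringEquiv π hπ hk φ
  rw [hg] at h
  have h1 := tr_of_eq π hk h
  rwa [tr_conjGL, tr_fieldAut, hσ] at h1

theorem ch (x : Matrix.SpecialLinearGroup (Fin 2) F) : x.1 * x.1 = tr x • x.1 - 1 := by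
  ext i j
  have h := ch00 x i j
  rw [pow_two] at h
  change (x.1 * x.1) i j = tr x * x.1 i j - (1 : Matrix (Fin 2) (Fin 2) F) i j at h
  rw [h, Matrix.sub_apply, Matrix.smul_apply, smul_eq_mul]

theorem coe_pow' (x : Matrix.SpecialLinearGroup (Fin 2) F) (n : ℕ) : (x ^ n).1 = x.1 ^ n :=
  Matrix.SpecialLinearGroup.coe_pow x n

/-- **Elements of odd order prime to `p` have order 1 or 3.** -/
theorem cube_eq_one [Finite F] {p : ℕ} [hp : Fact p.Prime] [CharP F p] (hp2 : p ≠ 2) [Finite G] (hH : Homog G)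
    (hπ : Function.Surjective π) (hk : π.ker ≤ center (Matrix.SpecialLinearGroup (Fin 2) F))
    (hσ : ∀ (σ : F ≃+* F) (a : F), σ a = a) {x : Matrix.SpecialLinearGroup (Fin 2) F} {n : ℕ} (hn : Odd n)
    (hnp : Nat.Coprime p n) (hx : x ^ n = 1) : x ^ 3 = 1 := by
  have hodd : Nat.Coprime (orderOf (π x)) 2 := by
    have h1 : orderOf (π x) ∣ n := orderOf_dvd_of_pow_eq_one (by rw [← map_pow, hx, map_one])
    exact (Nat.coprime_two_right.2 (Odd.of_dvd_nat hn h1))
  have h1 : orderOf (π x) = orderOf (π x ^ 2) := (Nat.Coprime.orderOf_pow hodd).symm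
  obtain ⟨φ, hφ⟩ := exists_aut_of_orderOf hH h1
  rw [← map_pow] at hφ
  have h2 := tr_aut π hπ hk hσ φ hφ
  rw [tr_sq] at h2
  have hCH := ch x
  set X := x.1 with hX
  set t := tr x with ht
  have hch : CharP (Matrix (Fin 2) (Fin 2) F) p := inferInstance
  have hgcd : ∀ m : ℕ, X ^ m = 1 → x ^ Nat.gcd m n = 1 := by
    intro m hm
    rw [pow_gcd_eq_one]
    refine ⟨Subtype.ext ?_, hx⟩
    rw [coe_pow']; exact hm
  have hpodd : Odd p := hp.out.odd_of_ne_two hp2
  have hcases : t = 2 ∨ t = -1 ∨ t = -2 ∨ t = 1 := by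
    rcases h2 with h2 | h2
    · have h3 : (t - 2) * (t + 1) = 0 := by linear_combination -h2
      rcases mul_eq_zero.1 h3 with h3 | h3
      · exact Or.inl (by linear_combination h3)
      · exact Or.inr (Or.inl (by linear_combination h3))
    · have h3 : (t + 2) * (t - 1) = 0 := by linear_combination h2
      rcases mul_eq_zero.1 h3 with h3 | h3
      · exact Or.inr (Or.inr (Or.inl (by linear_combination h3)))
      · exact Or.inr (Or.inr (Or.inr (by linear_combination h3)))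
  rcases hcases with h3 | h3 | h3 | h3
  · rw [h3] at hCH
    have hN : (X - 1) ^ 2 = 0 := by
      rw [pow_two, sub_mul, mul_sub, hCH, one_mul, mul_one, two_smul]; abel
    have h4 : X ^ p = 1 := by
      have h5 : X = 1 + (X - 1) := by abel
      rw [h5, add_pow_char_of_commute p (Commute.one_left _), one_pow]
      have h6 : (X - 1) ^ p = 0 := by
        obtain ⟨k, hk⟩ := Nat.exists_eq_add_of_le hp.out.two_le
        rw [hk, pow_add, hN, zero_mul]
      rw [h6, add_zero]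
    have h5 := hgcd p h4
    rw [hnp, pow_one] at h5
    rw [h5, one_pow]
  · rw [h3] at hCH
    have h4 : X ^ 3 = 1 := by
      rw [pow_succ, pow_two, hCH, sub_mul, one_mul, neg_smul, one_smul, neg_mul, hCH, neg_smul, one_smul]; abel
    apply Subtype.ext
    rw [coe_pow']; exact h4
  · rw [h3] at hCH
    have hN : (X + 1) ^ 2 = 0 := by
      rw [pow_two, add_mul, mul_add, hCH, one_mul, mul_one, neg_smul, two_smul]; abel
    have h4 : X ^ p = -1 := by
      have h5 : X = -1 + (X + 1) := by abel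
      rw [h5, add_pow_char_of_commute p ((Commute.one_left _).neg_left), hpodd.neg_one_pow]
      have h6 : (X + 1) ^ p = 0 := by
        obtain ⟨k, hk⟩ := Nat.exists_eq_add_of_le hp.out.two_le
        rw [hk, pow_add, hN, zero_mul]
      rw [h6, add_zero]
    have h4' : X ^ (p * 2) = 1 := by rw [pow_mul, h4]; simp only [_root_.even_two, _root_.Even.neg_pow, _root_.one_pow]
    have h5 := hgcd _ h4'
    have h6 : Nat.gcd (p * 2) n = 1 := Nat.Coprime.mul_left hnp (Nat.coprime_two_left.2 hn)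
    rw [h6, pow_one] at h5
    rw [h5, one_pow]
  · rw [h3] at hCH
    have h4 : X ^ 3 = -1 := by
      rw [pow_succ, pow_two, hCH, sub_mul, one_mul, one_smul, hCH, one_smul]; abel
    have h4' : X ^ (3 * 2) = 1 := by rw [pow_mul, h4]; simp only [_root_.even_two, _root_.Even.neg_pow, _root_.one_pow]
    have h5 := hgcd _ h4'
    have h6 : Nat.gcd (3 * 2) n ∣ 3 := by
      have h7 : Nat.Coprime (Nat.gcd (3 * 2) n) 2 :=
        Nat.coprime_two_right.2 (Odd.of_dvd_nat hn (Nat.gcd_dvd_right _ _))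
      exact h7.dvd_of_dvd_mul_right (Nat.gcd_dvd_left _ _)
    obtain ⟨k, hk⟩ := h6
    rw [hk, pow_mul, h5, one_pow]

end tr

/-- automorphisms of a prime field are trivial -/
theorem rigid {F : Type*} [Field F] [Fintype F] {p : ℕ} [hp : Fact p.Prime] (hF : Fintype.card F = p) :
    ∀ (σ : F ≃+* F) (a : F), σ a = a := by
  have hch : CharP F p := by
    have := charP_of_card_eq_prime (R := F) (p := p) (by rw [hF])
    exact this
  intro σ a
  let c : ZMod p →+* F := ZMod.castHom (dvd_refl p) F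
  have hc : Function.Bijective c := by
    rw [Fintype.bijective_iff_injective_and_card]
    exact ⟨c.injective, by rw [ZMod.card, hF]⟩
  obtain ⟨z, rfl⟩ := hc.2 a
  have h1 : (σ.toRingHom.comp c) = c := Subsingleton.elim _ _
  exact DFunLike.congr_fun h1 z

/-- arithmetic -/
theorem five_or_seven {p : ℕ} (hp : p.Prime) (h5 : 5 ≤ p)
    (h : ∀ r : ℕ, r.Prime → r ≠ 2 → r ≠ p → r ∣ p * (p ^ 2 - 1) → r = 3) (h9 : ¬ 9 ∣ p * (p ^ 2 - 1)) :
    p = 5 ∨ p = 7 := by
  have hodd : Odd p := hp.odd_of_ne_two (by omega)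
  obtain ⟨m, hm⟩ := hodd
  have hm2 : 2 ≤ m := by omega
  have hfac : p ^ 2 - 1 = 4 * (m * (m + 1)) := by
    rw [hm]
    have : (2 * m + 1) ^ 2 = 4 * (m * (m + 1)) + 1 := by ring
    omega
  have hnp : ¬ p ∣ p ^ 2 - 1 := by
    intro h1
    have h2 : p ∣ p ^ 2 := dvd_pow_self p two_ne_zero
    have h3 : 1 ≤ p ^ 2 := Nat.one_le_pow _ _ hp.pos
    have h4 := (Nat.dvd_sub_iff_right h3 h2).1 h1
    exact hp.one_lt.ne' (Nat.dvd_one.1 h4)
  have key : ∀ k : ℕ, Odd k → k ∣ m * (m + 1) → k = 1 ∨ k = 3 := by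
    intro k hk hkm
    have hkd : k ∣ p ^ 2 - 1 := by rw [hfac]; exact hkm.mul_left 4
    have hk0 : k ≠ 0 := by rintro rfl; simp at hk
    have h1 : k = 3 ^ k.primeFactorsList.length := by
      refine Nat.eq_prime_pow_of_unique_prime_dvd hk0 fun {d} hd hdk => ?_
      refine h d hd ?_ ?_ ((hdk.trans hkd).mul_left p)
      · rintro rfl
        exact (Nat.not_even_iff_odd.2 hk) (even_iff_two_dvd.2 hdk)
      · rintro rfl
        exact hnp (hdk.trans hkd)
    generalize k.primeFactorsList.length = c at h1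
    have hc : c < 2 := by
      by_contra hc
      push Not at hc
      apply h9
      have h2 : 9 ∣ k := by
        rw [h1]
        exact (by norm_num : (9 : ℕ) = 3 ^ 2) ▸ pow_dvd_pow 3 hc
      exact (h2.trans hkd).mul_left p
    interval_cases c
    · left; simpa using h1
    · right; simpa using h1
  rcases Nat.even_or_odd m with he | ho
  · have h1 := key (m + 1) (he.add_one) (dvd_mul_left _ _)
    omega
  · have h1 := key m ho (dvd_mul_right _ _)
    omega

end Cfsg.Agent.H486.Hg.SLT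
end

private theorem dce_45d366a638a4 : _root_.True := by
  try have : _root_.True := by simp only [_root_.Cfsg.Agent.H486.Hg.badB.eq_1]
  try have : _root_.True := by simp only [_root_.Cfsg.Agent.H486.Hg.mv.eq_1]
  try have : _root_.True := by simp only [_root_.Cfsg.Agent.H486.Hg.mm.eq_1]
  try have : _root_.True := by simp only [_root_.Cfsg.Agent.H486.Hg.ord3.eq_1]
  try have : _root_.True := by simp only [_root_.Cfsg.Agent.H486.Hg.toM.eq_1]
  try have : _root_.True := by simp only [_root_.Cfsg.Agent.H486.Hg.okB.eq_1]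
  try have : _root_.True := by simp only [_root_.Cfsg.Agent.H486.Hg.sh.eq_1]
  try have : _root_.True := by simp only [_root_.Cfsg.Agent.H486.Hg.cm.eq_1]
  try have : _root_.True := by simp only [_root_.Cfsg.Agent.H486.Hg.SLT.tr.eq_1]
  exact _root_.True.intro
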